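import Groth.Agent.FCompl.K28.SBC
import Groth.Agent.Ega1.LimitSystem
import Mathlib.RingTheory.AdicCompletion.AsTensorProduct

/-!
# Limits of the quotients `N / J^(n+1) N`

`ρ : C →+* B`, `p n : B →+* L n` presenting `B` as the limit of the `C / J^(n+1)`, `g : N →+ Q`, `q n : Q →+ P n`
presenting `Q` as the limit of the `N / J^(n+1) N` (`IsLim`): `psi : AdicCompletion J N → Q` is bijective; the ring
version; base change, flatness and completeness are transported.
-/

set_option autoImplicit false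
set_option linter.style.haveILetI false

universe u

open scoped TensorProduct

noncomputable section

namespace K390.CLimAlg

open K28

/-- `Q` is the limit of the quotients `N / J^(n+1) N`. -/
structure IsLim {C : Type u} [CommRing C] (J : Ideal C) {N Q : Type u} [AddCommGroup N] [Module C N] [AddCommGroup Q]
    (g : N →+ Q) {P : ℕ → Type u} [∀ n, AddCommGroup (P n)] (q : ∀ n, Q →+ P n) (s : ∀ n, P (n + 1) →+ P n) : Prop where
  surj : ∀ n (y : P n), ∃ c, q n (g c) = y
  ker : ∀ n c, q n (g c) = 0 ↔ c ∈ (J ^ (n + 1) • ⊤ : Submodule C N)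
  sq : ∀ n b, s n (q (n + 1) b) = q n b
  ext : ∀ b, (∀ n, q n b = 0) → b = 0
  lift : ∀ y : ∀ n, P n, (∀ n, s n (y (n + 1)) = y n) → ∃ b, ∀ n, q n b = y n

section Mod

variable {C : Type u} [CommRing C] {J : Ideal C} {N Q : Type u} [AddCommGroup N] [Module C N] [AddCommGroup Q]
    {g : N →+ Q} {P : ℕ → Type u} [∀ n, AddCommGroup (P n)] {q : ∀ n, Q →+ P n} {s : ∀ n, P (n + 1) →+ P n}

theorem IsLim.eq_iff (h : IsLim J g q s) (n : ℕ) (a b : N) : q n (g a) = q n (g b) ↔
    (Submodule.Quotient.mk a : N ⧸ (J ^ (n + 1) • ⊤ : Submodule C N)) = Submodule.Quotient.mk b := by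
  rw [← sub_eq_zero, ← map_sub, ← map_sub, h.ker, Submodule.Quotient.eq]

theorem IsLim.exists_psi (h : IsLim J g q s) (x : AdicCompletion J N) :
    ∃ y : Q, ∀ n (m : N), x.val (n + 1) = Submodule.Quotient.mk m → q n y = q n (g m) := by
  obtain ⟨a, rfl⟩ := AdicCompletion.mk_surjective _ _ x
  obtain ⟨y, hy⟩ := h.lift (fun n => q n (g (a (n + 1)))) fun n => by
    rw [h.sq, h.eq_iff]
    exact AdicCompletion.AdicCauchySequence.mk_eq_mk (Nat.le_succ (n + 1)) a
  refine ⟨y, fun n m hm => ?_⟩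
  rw [hy n, h.eq_iff, ← hm]
  rfl

/-- The map from the completion. -/
def IsLim.psi (h : IsLim J g q s) (x : AdicCompletion J N) : Q := (h.exists_psi x).choose

theorem IsLim.q_psi (h : IsLim J g q s) (x : AdicCompletion J N) (n : ℕ) (m : N)
    (hm : x.val (n + 1) = Submodule.Quotient.mk m) : q n (h.psi x) = q n (g m) :=
  (h.exists_psi x).choose_spec n m hm

theorem IsLim.psi_eq (h : IsLim J g q s) (x : AdicCompletion J N) (y : Q)
    (hy : ∀ n, ∃ m, x.val (n + 1) = Submodule.Quotient.mk m ∧ q n y = q n (g m)) : h.psi x = y := by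
  rw [← sub_eq_zero]
  apply h.ext
  intro n
  obtain ⟨m, hm, hym⟩ := hy n
  rw [map_sub, h.q_psi x n m hm, hym, sub_self]

theorem IsLim.psi_of (h : IsLim J g q s) (m : N) : h.psi (AdicCompletion.of J N m) = g m :=
  h.psi_eq _ _ fun _ => ⟨m, rfl, rfl⟩

theorem IsLim.psi_add (h : IsLim J g q s) (x y : AdicCompletion J N) : h.psi (x + y) = h.psi x + h.psi y := by
  refine h.psi_eq _ _ fun n => ?_
  obtain ⟨a, ha⟩ := Submodule.Quotient.mk_surjective _ (x.val (n + 1))
  obtain ⟨b, hb⟩ := Submodule.Quotient.mk_surjective _ (y.val (n + 1))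
  refine ⟨a + b, ?_, ?_⟩
  · rw [AdicCompletion.val_add_apply, ← ha, ← hb]
    rfl
  · rw [map_add, h.q_psi x n a ha.symm, h.q_psi y n b hb.symm, map_add, map_add]

/-- The additive form. -/
def IsLim.psiA (h : IsLim J g q s) : AdicCompletion J N →+ Q := AddMonoidHom.mk' h.psi h.psi_add

theorem IsLim.psi_injective (h : IsLim J g q s) : Function.Injective h.psi := by
  refine (injective_iff_map_eq_zero h.psiA).2 fun x hx => ?_
  have h1 : ∀ n, x.val (n + 1) = 0 := fun n => by
    obtain ⟨a, ha⟩ := Submodule.Quotient.mk_surjective _ (x.val (n + 1))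
    rw [← ha, Submodule.Quotient.mk_eq_zero, ← h.ker, ← h.q_psi x n a ha.symm]
    exact (congrArg (q n) hx).trans (map_zero _)
  apply AdicCompletion.ext
  intro n
  have h2 := x.2 (Nat.le_succ n)
  rw [AdicCompletion.val_zero, ← h2]
  have h3 := h1 n
  change AdicCompletion.transitionMap _ _ _ (x.val (n + 1)) = 0
  rw [h3, map_zero]

theorem IsLim.psi_surjective (h : IsLim J g q s) : Function.Surjective h.psi := by
  intro y
  choose m hm using fun n => h.surj n (q n y)
  let f : ℕ → N := fun n => m (n - 1)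
  have hf : ∀ n, f n ≡ f (n + 1) [SMOD (J ^ n • ⊤ : Submodule C N)] := by
    intro n
    rcases n with _ | n
    · simp only [pow_zero, Ideal.one_eq_top, Submodule.top_smul]
      exact SModEq.top
    · change m n ≡ m (n + 1) [SMOD _]
      apply SModEq.symm
      rw [SModEq.sub_mem, ← h.ker, map_sub, map_sub, hm n, ← h.sq n y, ← hm (n + 1), h.sq, sub_self]
  refine ⟨AdicCompletion.mk _ _ (AdicCompletion.AdicCauchySequence.mk _ _ f hf), ?_⟩
  exact h.psi_eq _ _ fun n => ⟨m n, rfl, (hm n).symm⟩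

end Mod

section Ring

variable {C B : Type u} [CommRing C] [CommRing B] {J : Ideal C} {ρ : C →+* B} {L : ℕ → Type u} [∀ n, CommRing (L n)]
  {p : ∀ n, B →+* L n} {t : ∀ n, L (n + 1) →+* L n}
  (hB : IsLim J (N := C) (Q := B) ρ.toAddMonoidHom (fun n => (p n).toAddMonoidHom) (fun n => (t n).toAddMonoidHom))

theorem psi_mul (x y : AdicCompletion J C) : hB.psi (x * y) = hB.psi x * hB.psi y := by
  refine hB.psi_eq _ _ fun n => ?_
  obtain ⟨a, ha⟩ := Submodule.Quotient.mk_surjective _ (x.val (n + 1))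
  obtain ⟨b, hb⟩ := Submodule.Quotient.mk_surjective _ (y.val (n + 1))
  refine ⟨a * b, ?_, ?_⟩
  · rw [AdicCompletion.val_mul, ← ha, ← hb]
    rfl
  · have h1 : p n (hB.psi x) = p n (ρ a) := hB.q_psi x n a ha.symm
    have h2 : p n (hB.psi y) = p n (ρ b) := hB.q_psi y n b hb.symm
    change p n (hB.psi x * hB.psi y) = p n (ρ (a * b))
    rw [map_mul, h1, h2, map_mul, map_mul]

/-- The ring form. -/
def psiR : AdicCompletion J C →+* B where
  toFun := hB.psi
  map_one' := by
    have h1 := hB.psi_of 1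
    refine Eq.trans ?_ (h1.trans (map_one ρ))
    rfl
  map_mul' := psi_mul hB
  map_zero' := map_zero hB.psiA
  map_add' := hB.psi_add

theorem psiR_algebraMap (c : C) : psiR hB (algebraMap C (AdicCompletion J C) c) = ρ c := hB.psi_of c

theorem psiR_comp : (psiR hB).comp (algebraMap C (AdicCompletion J C)) = ρ := RingHom.ext (psiR_algebraMap hB)

theorem psiR_bijective : Function.Bijective (psiR hB) := ⟨hB.psi_injective, hB.psi_surjective⟩

include hB in
/-- Flatness. -/
theorem flat (hf : Module.Flat C (AdicCompletion J C)) : ρ.Flat := by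
  letI := ρ.toAlgebra
  let e : AdicCompletion J C ≃ₐ[C] B := AlgEquiv.ofBijective
    { psiR hB with commutes' := psiR_algebraMap hB } (psiR_bijective hB)
  exact Module.Flat.of_linearEquiv e.symm.toLinearEquiv

variable {N Q : Type u} [AddCommGroup N] [Module C N] [AddCommGroup Q] [Module B Q]
    {g : N →+ Q} {P : ℕ → Type u} [∀ n, AddCommGroup (P n)] [∀ n, Module (L n) (P n)]
    {q : ∀ n, Q →+ P n} {s : ∀ n, P (n + 1) →+ P n}
  (hQ : IsLim J g q s) (hq : ∀ n (b : B) (x : Q), q n (b • x) = p n b • q n x)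
  (hg : ∀ (c : C) (m : N), g (c • m) = ρ c • g m)

include hB hQ hq hg

theorem psi_smul (x : AdicCompletion J C) (y : AdicCompletion J N) : hQ.psi (x • y) = psiR hB x • hQ.psi y := by
  refine hQ.psi_eq _ _ fun n => ?_
  obtain ⟨a, ha⟩ := Submodule.Quotient.mk_surjective _ (x.val (n + 1))
  obtain ⟨b, hb⟩ := Submodule.Quotient.mk_surjective _ (y.val (n + 1))
  refine ⟨a • b, ?_, ?_⟩
  · rw [AdicCompletion.smul_eval, ← ha, ← hb]
    rfl
  · have h1 : p n (hB.psi x) = p n (ρ a) := hB.q_psi x n a ha.symm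
    have h2 : p n (psiR hB x) = p n (ρ a) := h1
    rw [hq, h2, hQ.q_psi y n b hb.symm, hg, hq]

/-- Base change. -/
theorem sbc (hN : Function.Bijective (AdicCompletion.ofTensorProduct J N)) : SBC ρ g := by
  have h1 : IsBaseChange (AdicCompletion J C) (AdicCompletion.of J N) := by
    let e : AdicCompletion J C ⊗[C] N ≃ₗ[AdicCompletion J C] AdicCompletion J N :=
      LinearEquiv.ofBijective (AdicCompletion.ofTensorProduct J N) hN
    refine IsBaseChange.of_equiv e fun m => ?_
    change AdicCompletion.ofTensorProduct J N (1 ⊗ₜ m) = _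
    rw [AdicCompletion.ofTensorProduct_tmul, one_smul]
  have h2 := SBC.of_isBaseChange h1
  have h3 : SBC (psiR hB) hQ.psiA := SBC.of_surjective (psi_smul hB hQ hq hg) (psiR_bijective hB).2 hQ.psi_surjective
    fun m hm => by
      have : m = 0 := hQ.psi_injective (hm.trans (map_zero hQ.psiA).symm)
      rw [this]
      exact Submodule.zero_mem _
  have h4 := h2.comp h3
  rw [psiR_comp] at h4
  have h5 : hQ.psiA.comp (AdicCompletion.of J N).toAddMonoidHom = g := AddMonoidHom.ext hQ.psi_of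
  rwa [h5] at h4

end Ring

section Complete

variable {C B : Type u} [CommRing C] [CommRing B] {J : Ideal C} {ρ : C →+* B} {L : ℕ → Type u} [∀ n, CommRing (L n)]
  {p : ∀ n, B →+* L n} {t : ∀ n, L (n + 1) →+* L n}
  {N Q : Type u} [AddCommGroup N] [Module C N] [AddCommGroup Q] [Module B Q]
    {g : N →+ Q} {P : ℕ → Type u} [∀ n, AddCommGroup (P n)] [∀ n, Module (L n) (P n)]
    {q : ∀ n, Q →+ P n} {s : ∀ n, P (n + 1) →+ P n}
  (hQ : IsLim J g q s) (hq : ∀ n (b : B) (x : Q), q n (b • x) = p n b • q n x)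
  (hg : ∀ (c : C) (m : N), g (c • m) = ρ c • g m)

include hQ hq hg in
/-- The limit is complete and the kernels of the projections are the `(JB)^(n+1) Q`. -/
theorem complete (hJ : J.FG) : IsAdicComplete (J.map ρ) Q ∧
    ∀ n (x : Q), q n x = 0 ↔ x ∈ (J.map ρ ^ (n + 1) • ⊤ : Submodule B Q) := by
  letI : ∀ n, Module B (P n) := fun n => Module.compHom _ (p n)
  have hsm : ∀ n (b : B) (y : P n), b • y = p n b • y := fun n b y => rfl
  have hsurj : ∀ n (y : P n), ∃ x, q n x = y := fun n y => ⟨_, (hQ.surj n y).choose_spec⟩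
  have hs : ∀ n (b : B) (y : P (n + 1)), s n (b • y) = b • s n y := by
    intro n b y
    obtain ⟨x, rfl⟩ := hsurj (n + 1) y
    rw [hsm, ← hq, hQ.sq, hQ.sq, hsm, hq]
  let f : ∀ n, P (n + 1) →ₗ[B] P n := fun n => { s n with map_smul' := hs n }
  let π : ∀ n, Q →ₗ[B] P n := fun n => { q n with map_smul' := hq n }
  have hk1 : ∀ n k (m : N), m ∈ (J ^ k • ⊤ : Submodule C N) → π n (g m) ∈ (J.map ρ ^ k • ⊤ : Submodule B (P n)) := by
    intro n k m hm
    induction hm using Submodule.smul_induction_on' with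
    | smul c hc m _ =>
      rw [hg, map_smul, ← Ideal.map_pow]
      exact Submodule.smul_mem_smul (Ideal.mem_map_of_mem ρ hc) trivial
    | add x _ y _ hx hy => rw [map_add, map_add]; exact Submodule.add_mem _ hx hy
  have hker : ∀ n, LinearMap.ker (f n) = J.map ρ ^ (n + 1) • (⊤ : Submodule B (P (n + 1))) := by
    intro n
    apply le_antisymm
    · intro z hz
      obtain ⟨m, rfl⟩ := hQ.surj (n + 1) z
      have h1 : q n (g m) = 0 := by
        rw [← hQ.sq]
        exact hz
      exact hk1 (n + 1) (n + 1) m ((hQ.ker n m).1 h1)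
    · rw [← Ideal.map_pow, Submodule.smul_le]
      intro r hr z _
      obtain ⟨m, rfl⟩ := hQ.surj (n + 1) z
      induction hr using Submodule.span_induction with
      | mem x hx =>
        obtain ⟨c, hc, rfl⟩ := hx
        rw [LinearMap.mem_ker]
        refine (congrArg (s n) ((hq (n + 1) (ρ c) (g m)).symm)).trans ?_
        rw [← hg, hQ.sq, hQ.ker]
        exact Submodule.smul_mem_smul hc trivial
      | zero => rw [zero_smul]; exact Submodule.zero_mem _
      | add x y _ _ hx hy => rw [add_smul]; exact Submodule.add_mem _ hx hy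
      | smul a x _ hx => rw [smul_assoc]; exact Submodule.smul_mem _ a hx
  have hf : ∀ n, Function.Surjective (f n) := fun n y => by
    obtain ⟨x, rfl⟩ := hsurj n y
    exact ⟨q (n + 1) x, hQ.sq n x⟩
  obtain ⟨h1, h2, -⟩ := Groth.Agent.Ega1.LimitSystem.main (L := Q) (π := π) (hJ.map ρ) hf hker
    (fun n => LinearMap.ext fun x => hQ.sq n x) hQ.ext hQ.lift
  refine ⟨h1, fun n x => ?_⟩
  rw [← (h2 n).2]
  exact Iff.rfl

end Complete

end K390.CLimAlg

end
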