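import Groth.Agent.FCompl.K28.ToSch
import Groth.Agent.FCompl.K390.CLimAlg

/-!
# Sections of the completion of a quasi-coherent module

`X` a scheme, `𝓘` a quasi-coherent ideal, `X̂ = FSch.completionAlong X 𝓘` (formal, no Noetherian hypothesis), `F` a
quasi-coherent module, `F̂ = (FSch.complMod 𝓘 F).realMod h`, `V` an affine open of `X`, `V̂` its trace.
* `isLimR`: `O(V̂)` is the limit of the `Γ(X, V) / 𝓘(V)^(n+1)`;
* `isLimM`: `F̂(V̂)` is the limit of the `Γ(F, V) / 𝓘(V)^(n+1) Γ(F, V)`;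
* `app_gs`: naturality.
-/

set_option autoImplicit false
set_option linter.style.haveILetI false

universe u

open CategoryTheory CategoryTheory.Limits AlgebraicGeometry TopologicalSpace Opposite
open K29.RSec K29.RStalk K29.RPull K919.AffBasic K28 K28.RealSec K28.BasisIso K28.ToSch
open Groth.Agent.VarietyB K390.CLimAlg

noncomputable section

namespace K390.CSec

section General

variable {𝔛 : FSch.Sys.{u}} (h : 𝔛.IsFormal) {U : (𝔛.X 0).Opens} {C : Type u} [CommRing C] (J : Ideal C)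
  (ρ : C →+* O (𝔛.Osh h) U)

/-- `O_𝔛(U)` is the limit of the `C / J^(n+1)`. -/
structure LimR : Prop where
  surj : ∀ n (y : Γ(𝔛.X n, 𝔛.lvU h n U)), ∃ c, pk 𝔛 h n U (ρ c) = y
  ker : ∀ n c, pk 𝔛 h n U (ρ c) = 0 ↔ c ∈ J ^ (n + 1)

variable {h J ρ}

theorem LimR.isLim (hR : LimR h J ρ) : IsLim J ρ.toAddMonoidHom (fun n => (pk 𝔛 h n U).toAddMonoidHom)
    (fun n => (tk 𝔛 h n U).toAddMonoidHom) where
  surj n y := hR.surj n y
  ker n c := by
    rw [smul_eq_mul, Ideal.mul_top]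
    exact hR.ker n c
  sq n b := tk_pk _ h n _ b
  ext b hb := pk_ext _ h b 0 fun n => (hb n).trans (map_zero (pk _ h n _)).symm
  lift y hy := pk_lift _ h y hy

variable {G : ∀ k, (𝔛.X k).Modules} {t : ∀ k, G (k + 1) ⟶ (Scheme.Modules.pushforward (𝔛.ι k)).obj (G k)}
  {N : Type u} [AddCommGroup N] [Module C N] {g : N →+ Sec (FSch.realLim 𝔛 h G t) U}

theorem LimR.isLimM (hR : LimR h J ρ) (hs : ∀ n, SBC ((pk 𝔛 h n U).comp ρ) ((ps 𝔛 h G t n U).comp g)) :
    IsLim J g (fun n => ps 𝔛 h G t n U) (fun n => tS 𝔛 h G t n U) where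
  surj n y := (hs n).surjective_of_surjective (fun y => hR.surj n y) y
  ker n c := by
    have hk : RingHom.ker ((pk 𝔛 h n U).comp ρ) = J ^ (n + 1) := by
      ext a
      exact hR.ker n a
    constructor
    · intro hc
      have h1 := (hs n).mem_smul_top (fun y => hR.surj n y) c hc
      rw [hk] at h1
      exact h1
    · intro hs'
      induction hs' using Submodule.smul_induction_on' with
      | smul a ha m _ =>
        rw [← hk, RingHom.mem_ker] at ha
        refine ((hs n).smul a m).trans ?_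
        rw [ha, zero_smul]
      | add x _ y _ hx hy => rw [map_add, map_add, hx, hy, add_zero]
  sq n b := tS_ps _ h _ _ n _ b
  ext b hb := sec_ext _ h _ _ b 0 fun n => (hb n).trans (map_zero (ps _ h _ _ n _)).symm
  lift y hy := sec_lift _ h _ _ y hy

/-- Base change from the levels. -/
theorem LimR.sbc (hR : LimR h J ρ) (hs : ∀ n, SBC ((pk 𝔛 h n U).comp ρ) ((ps 𝔛 h G t n U).comp g))
    (hg : ∀ (c : C) (m : N), g (c • m) = ρ c • g m)
    (hN : Function.Bijective (AdicCompletion.ofTensorProduct J N)) : SBC ρ g :=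
  CLimAlg.sbc hR.isLim (hR.isLimM hs) (fun n b x => ps_smul 𝔛 h G t n U b x) hg hN

theorem LimR.complete (hR : LimR h J ρ) (hs : ∀ n, SBC ((pk 𝔛 h n U).comp ρ) ((ps 𝔛 h G t n U).comp g))
    (hg : ∀ (c : C) (m : N), g (c • m) = ρ c • g m) (hJ : J.FG) :
    IsAdicComplete (J.map ρ) (Sec (FSch.realLim 𝔛 h G t) U) ∧
      ∀ n (x : Sec (FSch.realLim 𝔛 h G t) U), ps 𝔛 h G t n U x = 0 ↔
        x ∈ (J.map ρ ^ (n + 1) • ⊤ : Submodule (O (𝔛.Osh h) U) (Sec (FSch.realLim 𝔛 h G t) U)) :=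
  CLimAlg.complete (hR.isLimM hs) (fun n b x => ps_smul 𝔛 h G t n U b x) hg hJ

theorem LimR.completeR (hR : LimR h J ρ) (hJ : J.FG) :
    IsAdicComplete (J.map ρ) (O (𝔛.Osh h) U) ∧
      ∀ n (x : O (𝔛.Osh h) U), pk 𝔛 h n U x = 0 ↔ x ∈ J.map ρ ^ (n + 1) := by
  have h1 := CLimAlg.complete (L := fun n => Γ(𝔛.X n, 𝔛.lvU h n U)) (p := fun n => pk 𝔛 h n U) hR.isLim
    (fun n b x => map_mul (pk 𝔛 h n U) b x) (fun c m => map_mul ρ c m) hJ
  refine ⟨h1.1, fun n x => ?_⟩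
  have h2 := h1.2 n x
  rw [smul_eq_mul, Ideal.mul_top] at h2
  exact h2

theorem LimR.flat (hR : LimR h J ρ) (hf : Module.Flat C (AdicCompletion J C)) : ρ.Flat :=
  CLimAlg.flat (L := fun n => Γ(𝔛.X n, 𝔛.lvU h n U)) hR.isLim hf

end General

variable {X : Scheme.{u}} {𝓘 : X.IdealSheafData} (h : (FSch.completionAlong X 𝓘).IsFormal)

variable (𝓘) in
/-- The open of the common space of the completion defined by an open of `X`. -/
abbrev hat (V : X.Opens) : ((FSch.completionAlong X 𝓘).X 0).Opens := FSch.completionToX X 𝓘 0 ⁻¹ᵁ V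

theorem hat_mono {V W : X.Opens} (hV : W ≤ V) : hat 𝓘 W ≤ hat 𝓘 V := fun _ hx => hV hx

variable (𝓘) in
/-- The opens `hat V`, `V` affine. -/
def hatAff : Set ((FSch.completionAlong X 𝓘).X 0).Opens := {U | ∃ V : X.Opens, IsAffineOpen V ∧ U = hat 𝓘 V}

variable (𝓘) in
theorem exists_hat (W : ((FSch.completionAlong X 𝓘).X 0).Opens) {𝓑 : Set X.Opens} (hB : Basis (T := X.carrier) 𝓑)
    (x : (FSch.completionAlong X 𝓘).X 0) (hx : x ∈ W) :
    ∃ V ∈ 𝓑, x ∈ hat 𝓘 V ∧ hat 𝓘 V ≤ W := by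
  have h1 : IsClosedImmersion (FSch.completionToX X 𝓘 0) :=
    inferInstanceAs (IsClosedImmersion (𝓘 ^ (0 + 1)).subschemeι)
  have hemb : Topology.IsInducing (FSch.completionToX X 𝓘 0).base :=
    (FSch.completionToX X 𝓘 0).isClosedEmbedding.isInducing
  obtain ⟨V, hV, hyV, -, hVW⟩ := cofinal_of_embedding _ hemb hB x ⊤ W trivial hx
  exact ⟨V, hV, hyV, hVW⟩

variable (𝓘) in
theorem basis_hatAff : Basis (T := ((FSch.completionAlong X 𝓘).X 0).carrier) (hatAff 𝓘) := by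
  intro y W hy
  have hB : Basis (T := X.carrier) {V : X.Opens | IsAffineOpen V} := by
    intro x V hx
    obtain ⟨_, ⟨U, hU, rfl⟩, hxU, hUV⟩ := X.isBasis_affineOpens.exists_subset_of_mem_open hx V.2
    exact ⟨U, hU, hxU, hUV⟩
  obtain ⟨V, hV, hyV, hVW⟩ := exists_hat 𝓘 W hB y hy
  exact ⟨_, ⟨V, hV, rfl⟩, hyV, hVW⟩

theorem isAffineOpen_hat {V : X.Opens} (hV : IsAffineOpen V) (n : ℕ) :
    IsAffineOpen ((FSch.completionAlong X 𝓘).lvU h n (hat 𝓘 V)) :=
  isAffineOpen_lvU _ h (K920.KapSch.isAffineOpen_pre h ⟨V, hV⟩) n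

variable (𝓘) in
/-- The completion map on sections of the structure sheaf. -/
abbrev cr (V : X.Opens) : O X.sheaf V →+* O ((FSch.completionAlong X 𝓘).Osh h) (hat 𝓘 V) :=
  cm (K920.KapSch.phi X 𝓘 h) V

/-- The completion map on sections. -/
abbrev cs (F : X.Modules) (V : X.Opens) :
    Sec (R := X.sheaf) F V →+ Sec ((FSch.complMod 𝓘 F).realMod h) (hat 𝓘 V) :=
  gs (φ := K920.KapSch.phi X 𝓘 h) (eta 𝓘 h F) V

theorem cs_smul (F : X.Modules) (V : X.Opens) (a : O X.sheaf V) (m : Sec (R := X.sheaf) F V) :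
    cs h F V (a • m) = cr 𝓘 h V a • cs h F V m :=
  gs_smul (φ := K920.KapSch.phi X 𝓘 h) (eta 𝓘 h F) V a m

section Aff

variable {V : X.Opens} (hV : IsAffineOpen V)

variable (𝓘) in
/-- The ideal of sections over an affine open. -/
def JV : Ideal (O X.sheaf V) := 𝓘.ideal ⟨V, hV⟩

theorem limR : LimR (C := O X.sheaf V) h (JV 𝓘 hV) (cr 𝓘 h V) where
  surj n y := K920.KapSch.pr_cm_surj h n ⟨V, hV⟩ y
  ker n c := K920.KapSch.pr_cm_eq_zero_iff h n ⟨V, hV⟩ c

variable {F : X.Modules} (hF : Coh.IsQCoh F)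

include hV hF in
theorem sbc_level (n : ℕ) :
    SBC (A := O X.sheaf V) (M := Sec (R := X.sheaf) F V)
      ((pk (FSch.completionAlong X 𝓘) h n (hat 𝓘 V)).comp (cr 𝓘 h V))
      ((ps (FSch.completionAlong X 𝓘) h (FSch.complMod 𝓘 F).F (FSch.complMod 𝓘 F).toPush n (hat 𝓘 V)).comp
        (cs h F V)) := by
  have h1 := LevelBC.sbc_sec (FSch.completionToX X 𝓘 n) hF
      (FSch.lvU_p (FSch.completionAlong X 𝓘) h (FSch.completionToX X 𝓘) (FSch.completionToX_comm X 𝓘) n V).ge hV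
      (isAffineOpen_hat h hV n)
  have e1 : ((FSch.completionToX X 𝓘 n).appLE V _ (FSch.lvU_p (FSch.completionAlong X 𝓘) h
      (FSch.completionToX X 𝓘) (FSch.completionToX_comm X 𝓘) n V).ge).hom =
      (pk (FSch.completionAlong X 𝓘) h n (FSch.completionToX X 𝓘 0 ⁻¹ᵁ V)).comp
        (cm (K920.KapSch.phi X 𝓘 h) V) :=
    RingHom.ext fun a => (pk_cm (FSch.completionAlong X 𝓘) h (FSch.completionToX X 𝓘)
      (FSch.completionToX_comm X 𝓘) n V a).symm
  have e2 : PullSec.sec (FSch.completionToX X 𝓘 n) F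
    (FSch.lvU_p (FSch.completionAlong X 𝓘) h (FSch.completionToX X 𝓘) (FSch.completionToX_comm X 𝓘) n V).ge =
      (ps (FSch.completionAlong X 𝓘) h (FSch.complMod 𝓘 F).F (FSch.complMod 𝓘 F).toPush n
        (FSch.completionToX X 𝓘 0 ⁻¹ᵁ V)).comp (gs (φ := K920.KapSch.phi X 𝓘 h) (eta 𝓘 h F) V) :=
    AddMonoidHom.ext fun a => (ps_eta h F n V a).symm
  rw [e1, e2] at h1
  exact h1

include hF in
/-- Sections of the completion as a base change. -/
theorem sbc_cs (hN : Function.Bijective (AdicCompletion.ofTensorProduct (R := O X.sheaf V)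
    (JV 𝓘 hV) (Sec (R := X.sheaf) F V))) :
    SBC (A := O X.sheaf V) (M := Sec (R := X.sheaf) F V) (cr 𝓘 h V) (cs h F V) :=
  (limR h hV).sbc (sbc_level h hV hF) (cs_smul h F V) hN

end Aff

/-- Naturality of sections of pullbacks. -/
theorem sec_naturality {Y : Scheme.{u}} (g : Y ⟶ X) {F G : X.Modules} (φ : F ⟶ G) {U : X.Opens} {V : Y.Opens}
    (e : V ≤ g ⁻¹ᵁ U) (s : Γ(F, U)) :
    ((Scheme.Modules.pullback g).map φ).app V (PullSec.sec g F e s) = PullSec.sec g G e (φ.app U s) := by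
  rw [PullSec.sec_apply, PullSec.sec_apply]
  have h1 := congrArg (fun β => β.app U s) ((Scheme.Modules.pullbackPushforwardAdjunction g).unit.naturality φ)
  have h2 : ((Scheme.Modules.pullback g).map φ).app (g ⁻¹ᵁ U)
      (((Scheme.Modules.pullbackPushforwardAdjunction g).unit.app F).app U s) =
        ((Scheme.Modules.pullbackPushforwardAdjunction g).unit.app G).app U (φ.app U s) := h1.symm
  rw [← h2]
  exact congr($(((Scheme.Modules.pullback g).map φ).mapPresheaf.naturality (homOfLE e).op) _)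

/-- Naturality. -/
theorem app_cs {F G : X.Modules} (φ : F ⟶ G) (V : X.Opens) (s : Γ(F, V)) :
    app (FSch.ModSys.realModMap h (FSch.complModMap 𝓘 φ)) (hat 𝓘 V) (cs h F V s) = cs h G V (φ.app V s) := by
  apply sec_ext (FSch.completionAlong X 𝓘) h (FSch.complMod 𝓘 G).F (FSch.complMod 𝓘 G).toPush
  intro k
  refine (ps_realModMap h (FSch.complModMap 𝓘 φ) k _ _).trans ?_
  rw [ps_eta]
  refine Eq.trans ?_ (ps_eta h G k V (φ.app V s)).symm
  exact sec_naturality (FSch.completionToX X 𝓘 k) φ _ s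

theorem cs_res (F : X.Modules) {V W : X.Opens} (hW : W ≤ V) (s : Sec (R := X.sheaf) F V) :
    cs h F W (res (R := X.sheaf) F hW s) = res _ (hat_mono hW) (cs h F V s) :=
  app_res (eta 𝓘 h F) hW s

theorem cr_res {V W : X.Opens} (hW : W ≤ V) (s : O X.sheaf V) :
    cr 𝓘 h W (resO hW s) = resO (hat_mono hW) (cr 𝓘 h V s) :=
  cm_resO (K920.KapSch.phi X 𝓘 h) hW s

end K390.CSec

end
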