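import Mathlib.Algebra.Module.FinitePresentation
import Mathlib.RingTheory.Flat.Basic
import Mathlib.RingTheory.Flat.Stability
import Mathlib.RingTheory.TensorProduct.Finite
import Mathlib.LinearAlgebra.TensorProduct.RightExactness

/-!
# Descent of finite presentation along a jointly faithful finite family of flat algebras
-/

set_option autoImplicit false
set_option linter.style.haveILetI false

universe u

open scoped TensorProduct

noncomputable section

namespace K390.FpDesc

variable {A : Type u} [CommRing A]

/-- A finite base change is generated by finitely many elements of the module. -/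
theorem exists_finset {B : Type u} [CommRing B] [Algebra A B] (K : Type u) [AddCommGroup K] [Module A K]
    [Module.Finite B (B ⊗[A] K)] :
    ∃ s : Finset K, Submodule.span B ((fun k : K => (1 : B) ⊗ₜ[A] k) '' s) = ⊤ := by
  have h1 : Submodule.span B (Set.range fun k : K => (1 : B) ⊗ₜ[A] k) = ⊤ := by
    rw [eq_top_iff]
    rintro x -
    induction x using TensorProduct.induction_on with
    | zero => exact Submodule.zero_mem _
    | add x y hx hy => exact Submodule.add_mem _ hx hy
    | tmul b k =>
      have : b ⊗ₜ[A] k = b • ((1 : B) ⊗ₜ[A] k) := by rw [TensorProduct.smul_tmul', smul_eq_mul, mul_one]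
      rw [this]
      exact Submodule.smul_mem _ _ (Submodule.subset_span ⟨k, rfl⟩)
  have h2 : (Submodule.span B (Set.range fun k : K => (1 : B) ⊗ₜ[A] k)).FG := by
    rw [h1]
    exact Module.Finite.fg_top
  obtain ⟨t, ht, ht'⟩ := (Submodule.fg_span_iff_fg_span_finset_subset _).1 h2
  classical
  choose f hf using fun x : t => ht x.2
  refine ⟨t.attach.image f, ?_⟩
  rw [← h1, ht']
  congr 1
  ext x
  simp only [Finset.coe_image, Set.mem_image, Finset.mem_coe, Finset.mem_attach, true_and]
  constructor
  · rintro ⟨_, ⟨y, rfl⟩, rfl⟩
    have e : (1 : B) ⊗ₜ[A] f y = y := hf y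
    rw [e]
    exact y.2
  · intro hx
    exact ⟨_, ⟨⟨x, hx⟩, rfl⟩, hf ⟨x, hx⟩⟩

/-- Finite presentation descends along a finite family of flat algebras which is jointly faithful. -/
theorem finitePresentation {ι : Type*} [Finite ι] (B : ι → Type u) [∀ i, CommRing (B i)] [∀ i, Algebra A (B i)]
    [∀ i, Module.Flat A (B i)]
    (hff : ∀ (N : Type u) [AddCommGroup N] [Module A N], (∀ i, Subsingleton (B i ⊗[A] N)) → Subsingleton N)
    (M : Type u) [AddCommGroup M] [Module A M] [Module.Finite A M]
    (hfp : ∀ i, Module.FinitePresentation (B i) (B i ⊗[A] M)) : Module.FinitePresentation A M := by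
  obtain ⟨r, f, hf⟩ := Module.Finite.exists_fin' A M
  refine Module.finitePresentation_of_free_of_surjective f hf ?_
  let K := LinearMap.ker f
  have hfin : ∀ i, Module.Finite (B i) (B i ⊗[A] K) := by
    intro i
    have h1 : Function.Injective (K.subtype.baseChange (B i)) :=
      Module.Flat.lTensor_preserves_injective_linearMap (M := B i) K.subtype K.injective_subtype
    have h2 : Function.Exact (K.subtype.baseChange (B i)) (f.baseChange (B i)) :=
      lTensor_exact (B i) (LinearMap.exact_subtype_ker_map f) hf
    have h3 : Function.Surjective (f.baseChange (B i)) := LinearMap.lTensor_surjective (B i) hf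
    have h4 : (LinearMap.ker (f.baseChange (B i))).FG := Module.FinitePresentation.fg_ker _ h3
    have h5 : LinearMap.range (K.subtype.baseChange (B i)) = LinearMap.ker (f.baseChange (B i)) :=
      (LinearMap.exact_iff.1 h2).symm
    rw [← h5] at h4
    have h6 : Module.Finite (B i) (LinearMap.range (K.subtype.baseChange (B i))) := Module.Finite.iff_fg.2 h4
    exact Module.Finite.equiv (LinearEquiv.ofInjective _ h1).symm
  choose s hs using fun i => exists_finset (A := A) (B := B i) K
  let K' : Submodule A K := Submodule.span A (⋃ i, (s i : Set K))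
  have hK' : K'.FG := Submodule.fg_span (Set.finite_iUnion fun i => (s i).finite_toSet)
  have hN : Subsingleton (K ⧸ K') := by
    refine hff _ fun i => ?_
    refine ⟨fun x y => ?_⟩
    suffices h : ∀ x : B i ⊗[A] (K ⧸ K'), x = 0 by rw [h x, h y]
    intro x
    obtain ⟨z, rfl⟩ := LinearMap.lTensor_surjective (B i) K'.mkQ_surjective x
    have h1 : ∀ z ∈ Submodule.span (B i) ((fun k : K => (1 : B i) ⊗ₜ[A] k) '' (s i : Set K)),
        K'.mkQ.baseChange (B i) z = 0 := by
      intro z hz
      induction hz using Submodule.span_induction with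
      | mem z hz =>
        obtain ⟨k, hk, rfl⟩ := hz
        rw [LinearMap.baseChange_tmul]
        have : K'.mkQ k = 0 := (Submodule.Quotient.mk_eq_zero _).2
          (Submodule.subset_span (Set.mem_iUnion.2 ⟨i, hk⟩))
        rw [this, TensorProduct.tmul_zero]
      | zero => exact map_zero _
      | add x y _ _ hx hy => rw [map_add, hx, hy, add_zero]
      | smul a x _ hx => rw [map_smul, hx, smul_zero]
    exact h1 z (by rw [hs i]; trivial)
  have hK : K' = ⊤ := Submodule.Quotient.subsingleton_iff.1 hN
  rw [hK] at hK'
  exact Module.Finite.iff_fg.1 ⟨hK'⟩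

end K390.FpDesc

end
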