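import Groth.Agent.FCompl.K28.LevelBC
import Groth.Agent.FCompl.K29.RSec
import Groth.Agent.Fcompl.H552.IdealSpec

/-!
# Sections of `tilde M` over affine opens of `Spec A`

* `tau M V : M →+ Γ(tilde M, V)`, `sbc_tau`: base change along `A → Γ(Spec A, V)`; `tau_res`, `tau_map`;
* `fg_ideal`, `ideal_eq`: the ideal of `FSch.idealSpec A J` over affine opens; `finiteType_secMap`.
-/

set_option autoImplicit false
set_option linter.style.haveILetI false

universe u

open CategoryTheory CategoryTheory.Limits AlgebraicGeometry TopologicalSpace Opposite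
open K28 Groth.Agent.Fcompl.H552.IdealSpec

noncomputable section

namespace K390.TildeSec

variable {A : Type u} [CommRing A]

/-- Sections of `tilde M` from elements of `M`. -/
def tau (M : ModuleCat.{u} A) (V : (Spec (CommRingCat.of A)).Opens) : M →+ Γ(tilde (R := CommRingCat.of A) M, V) :=
  (tilde.toOpen (R := CommRingCat.of A) M V).hom.toAddMonoidHom

theorem tau_smul (M : ModuleCat.{u} A) (V : (Spec (CommRingCat.of A)).Opens) (a : A) (m : M) :
    tau M V (a • m) = secMap A V a • tau M V m := by
  refine ((tilde.toOpen (R := CommRingCat.of A) M V).hom.map_smul a m).trans ?_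
  exact Scheme.Modules.smul_Spec_def (R := CommRingCat.of A) (M := tilde (R := CommRingCat.of A) M) a _

theorem tau_res (M : ModuleCat.{u} A) {V W : (Spec (CommRingCat.of A)).Opens} (hW : W ≤ V) (m : M) :
    (tilde (R := CommRingCat.of A) M).presheaf.map (homOfLE hW).op (tau M V m) = tau M W m := by
  have := tilde.toOpen_res (R := CommRingCat.of A) M V W (homOfLE hW)
  exact congr($this m)

theorem tau_map {M N : ModuleCat.{u} A} (f : M ⟶ N) (V : (Spec (CommRingCat.of A)).Opens) (m : M) :
    ((tilde.functor (CommRingCat.of A)).map f).app V (tau M V m) = tau N V (f m) := by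
  have := tilde.toOpen_map_app (R := CommRingCat.of A) f V
  exact congr($this m)

theorem tau_top_bijective (M : ModuleCat.{u} A) : Function.Bijective (tau M ⊤) := by
  have h1 : IsIso (tilde.toOpen (R := CommRingCat.of A) M ⊤) := tilde.isIso_toOpen_top (R := CommRingCat.of A) (M := M)
  exact ConcreteCategory.bijective_of_isIso (C := ModuleCat A) (tilde.toOpen (R := CommRingCat.of A) M ⊤)

theorem secMap_top_bijective : Function.Bijective (secMap A ⊤).hom := by
  have : IsIso (secMap A ⊤) := by
    rw [secMap]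
    have e : (homOfLE (le_top : (⊤ : (Spec (CommRingCat.of A)).Opens) ≤ ⊤)).op = 𝟙 (op ⊤) := rfl
    rw [e, CategoryTheory.Functor.map_id]
    infer_instance
  exact ConcreteCategory.bijective_of_isIso (secMap A ⊤)

theorem sbc_tau_top (M : ModuleCat.{u} A) : SBC (secMap A ⊤).hom (tau M ⊤) :=
  SBC.of_surjective (tau_smul M ⊤) secMap_top_bijective.2 (tau_top_bijective M).2 fun m hm => by
    have : m = 0 := (tau_top_bijective M).1 (hm.trans (map_zero (tau M ⊤)).symm)
    rw [this]
    exact Submodule.zero_mem _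

theorem sbc_tau (M : ModuleCat.{u} A) {V : (Spec (CommRingCat.of A)).Opens} (hV : IsAffineOpen V) :
    SBC (secMap A V).hom (tau M V) := by
  have hq : Coh.IsQCoh (tilde (R := CommRingCat.of A) M) :=
    inferInstanceAs (tilde (R := CommRingCat.of A) M).IsQuasicoherent
  have h1 := (sbc_tau_top M).comp (LevelBC.sbc_res hq (le_top : V ≤ ⊤) (isAffineOpen_top _) hV)
  have e1 : (((Spec (CommRingCat.of A)).presheaf.map (homOfLE (le_top : V ≤ ⊤)).op).hom.comp (secMap A ⊤).hom) =
      (secMap A V).hom := by
    apply RingHom.ext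
    intro a
    have e : (homOfLE (le_top : (⊤ : (Spec (CommRingCat.of A)).Opens) ≤ ⊤)).op = 𝟙 (op ⊤) := rfl
    have e2 : secMap A ⊤ ≫ (Spec (CommRingCat.of A)).presheaf.map (homOfLE (le_top : V ≤ ⊤)).op = secMap A V := by
      rw [secMap, e, CategoryTheory.Functor.map_id, Category.comp_id, secMap]
    exact congr($e2 a)
  have e2 : (((tilde (R := CommRingCat.of A) M).presheaf.map (homOfLE (le_top : V ≤ ⊤)).op).hom.comp (tau M ⊤)) =
      tau M V := AddMonoidHom.ext fun m => tau_res M (le_top : V ≤ ⊤) m
  rw [e1, e2] at h1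
  exact h1

theorem isQCoh_tilde (M : ModuleCat.{u} A) : Coh.IsQCoh (tilde (R := CommRingCat.of A) M) :=
  inferInstanceAs (tilde (R := CommRingCat.of A) M).IsQuasicoherent

theorem finiteType_secMap {V : (Spec (CommRingCat.of A)).Opens} (hV : IsAffineOpen V) :
    (secMap A V).hom.FiniteType := by
  have h1 := (𝟙 (Spec (CommRingCat.of A)) : Spec (CommRingCat.of A) ⟶ _).finiteType_appLE
    (U := ⊤) (V := V) (isAffineOpen_top _) hV le_top
  have h2 : (RingHom.FiniteType (secMap A ⊤).hom) := RingHom.FiniteType.of_surjective _ secMap_top_bijective.2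
  have h3 := h1.comp h2
  have e1 : ((𝟙 (Spec (CommRingCat.of A)) : Spec (CommRingCat.of A) ⟶ _).appLE ⊤ V le_top).hom.comp (secMap A ⊤).hom =
      (secMap A V).hom := by
    apply RingHom.ext
    intro a
    have e : (homOfLE (le_top : (⊤ : (Spec (CommRingCat.of A)).Opens) ≤ ⊤)).op = 𝟙 (op ⊤) := rfl
    have e2 : secMap A ⊤ ≫ (𝟙 (Spec (CommRingCat.of A)) : Spec (CommRingCat.of A) ⟶ _).appLE ⊤ V le_top =
        secMap A V := by
      rw [secMap, e, CategoryTheory.Functor.map_id, Category.comp_id, secMap]
      rfl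
    exact congr($e2 a)
  rwa [e1] at h3

theorem ideal_eq (J : Ideal A) {V : (Spec (CommRingCat.of A)).Opens} (hV : IsAffineOpen V) :
    (FSch.idealSpec A J).ideal ⟨V, hV⟩ = J.map (secMap A V).hom := by
  have h1 := ideal_idealSpec_pow A J 1 ⟨V, hV⟩
  rwa [pow_one, pow_one] at h1

end K390.TildeSec

end
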