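import Groth.Agent.FCompl.K390.CSec
import Groth.Agent.FCompl.K390.TildeSec
import Groth.Agent.S11537
import Groth.Agent.S11539
import Groth.Agent.AdicRing.K26.CLocQ
import Groth.Agent.AdicRing.K25.ArtinRees
import Mathlib.AlgebraicGeometry.Morphisms.Flat

/-!
# The formal spectrum of an algebra topologically of finite type over a base ring of class (N) or (V)

`A` topologically of finite type over `(R, I)`, `𝔛 = Spf A` the completion of `Spec A` along `IA`, `V` an affine open of
`Spec A`, `V̂` its trace, `ra V : A → O_𝔛(V̂)`, `ta M V : M → M^Δ(V̂)`.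
* `flat_ra`; `topFiniteType`: `O_𝔛(V̂)` is topologically of finite type; `isAdicComplete_of_finite`: finite
  `O_𝔛(V̂)`-modules are complete;
* `sbc_ta`: `M^Δ(V̂) = O_𝔛(V̂) ⊗_A M` for finite `M`; `ta_top_bijective`: `M^Δ(𝔛) = M`.
-/

set_option autoImplicit false
set_option linter.style.haveILetI false

universe u

open CategoryTheory CategoryTheory.Limits AlgebraicGeometry TopologicalSpace Opposite
open K29.RSec K29.RStalk K29.RPull K919.AffBasic K28 K28.RealSec K28.BasisIso K28.ToSch
open Groth.Agent.Fcompl.H552.IdealSpec K390.CLimAlg K390.CSec K390.TildeSec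

noncomputable section

namespace K390.VBase

variable {R : Type u} [CommRing R] {I : Ideal R} {A : Type u} [CommRing A] [Algebra R A]

section Alg

variable (hR : AdicRing.IsBase R I) (hA : AdicRing.TopFiniteType R I A)
  {C : Type u} [CommRing C] {σ : A →+* C} (hσ : σ.FiniteType)

include hR hA hσ

theorem ofTensorProduct_bijective {J : Ideal C} (hJ : J = (I.map (algebraMap R A)).map σ)
    (N : Type u) [AddCommGroup N] [Module C N] [Module.Finite C N] :
    Function.Bijective (AdicCompletion.ofTensorProduct J N) := by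
  letI := σ.toAlgebra
  letI := (σ.comp (algebraMap R A)).toAlgebra
  haveI : IsScalarTower R A C := IsScalarTower.of_algebraMap_eq fun _ => rfl
  haveI : Algebra.FiniteType A C := hσ
  have h1 := Groth.Agent.S11537.result R I hR A hA C N
  have e : (I.map (algebraMap R A)).map σ = I.map (algebraMap R C) := Ideal.map_map _ _
  rw [e] at hJ
  subst hJ
  exact h1

theorem flat_compl {J : Ideal C} (hJ : J = (I.map (algebraMap R A)).map σ) : Module.Flat C (AdicCompletion J C) := by
  letI := σ.toAlgebra
  letI := (σ.comp (algebraMap R A)).toAlgebra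
  haveI : IsScalarTower R A C := IsScalarTower.of_algebraMap_eq fun _ => rfl
  haveI : Algebra.FiniteType A C := hσ
  have h1 := Groth.Agent.S11539.result R I hR A hA C
  have e : (I.map (algebraMap R A)).map σ = I.map (algebraMap R C) := Ideal.map_map _ _
  rw [e] at hJ
  subst hJ
  exact h1

end Alg

section Geo

variable (h : (FSch.completionAlong (Spec (CommRingCat.of A)) (FSch.idealSpec A (I.map (algebraMap R A)))).IsFormal)

/-- The map `A → O_𝔛(V̂)`. -/
def ra (V : (Spec (CommRingCat.of A)).Opens) :
    A →+* O ((FSch.completionAlong (Spec (CommRingCat.of A)) (FSch.idealSpec A (I.map (algebraMap R A)))).Osh h)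
      (hat (FSch.idealSpec A (I.map (algebraMap R A))) V) :=
  (cr (FSch.idealSpec A (I.map (algebraMap R A))) h V).comp (secMap A V).hom

/-- The map `M → M^Δ(V̂)`. -/
def ta (M : ModuleCat.{u} A) (V : (Spec (CommRingCat.of A)).Opens) :
    M →+ Sec ((FSch.complMod (FSch.idealSpec A (I.map (algebraMap R A))) (tilde (R := CommRingCat.of A) M)).realMod h)
      (hat (FSch.idealSpec A (I.map (algebraMap R A))) V) :=
  (cs h (tilde (R := CommRingCat.of A) M) V).comp (tau M V)

theorem ta_smul (M : ModuleCat.{u} A) (V : (Spec (CommRingCat.of A)).Opens) (a : A) (m : M) :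
    ta h M V (a • m) = ra h V a • ta h M V m := by
  refine (congrArg (cs h (tilde (R := CommRingCat.of A) M) V) (tau_smul M V a m)).trans ?_
  exact cs_smul h (tilde (R := CommRingCat.of A) M) V _ _

theorem ta_res (M : ModuleCat.{u} A) {V W : (Spec (CommRingCat.of A)).Opens} (hW : W ≤ V) (m : M) :
    res _ (hat_mono hW) (ta h M V m) = ta h M W m := by
  refine (cs_res h (tilde (R := CommRingCat.of A) M) hW (tau M V m)).symm.trans ?_
  exact congrArg (cs h (tilde (R := CommRingCat.of A) M) W) (tau_res M hW m)

theorem ra_res {V W : (Spec (CommRingCat.of A)).Opens} (hW : W ≤ V) (a : A) :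
    resO (hat_mono hW) (ra h V a) = ra h W a := by
  refine (cr_res h hW ((secMap A V).hom a)).symm.trans ?_
  have e : secMap A V ≫ (Spec (CommRingCat.of A)).presheaf.map (homOfLE hW).op = secMap A W := by
    rw [secMap, secMap, Category.assoc, ← Functor.map_comp]
    rfl
  exact congrArg (cr (FSch.idealSpec A (I.map (algebraMap R A))) h W) congr($e a)

theorem app_ta {M N : ModuleCat.{u} A} (f : M ⟶ N) (V : (Spec (CommRingCat.of A)).Opens) (m : M) :
    app (FSch.ModSys.realModMap h (FSch.complModMap (FSch.idealSpec A (I.map (algebraMap R A)))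
      ((tilde.functor (CommRingCat.of A)).map f))) (hat _ V) (ta h M V m) = ta h N V (f m) := by
  refine (app_cs h ((tilde.functor (CommRingCat.of A)).map f) V (tau M V m)).trans ?_
  exact congrArg (cs h (tilde (R := CommRingCat.of A) N) V) (tau_map f V m)

variable (hR : AdicRing.IsBase R I) (hA : AdicRing.TopFiniteType R I A)
  {V : (Spec (CommRingCat.of A)).Opens} (hV : IsAffineOpen V)

include hV in
omit [Algebra R A] in
theorem flat_secMap : (secMap A V).hom.Flat := by
  have h1 := (𝟙 (Spec (CommRingCat.of A)) : Spec (CommRingCat.of A) ⟶ _).flat_appLE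
    (U := ⊤) (V := V) (isAffineOpen_top _) hV le_top
  have h2 : (secMap A ⊤).hom.Flat := RingHom.Flat.of_bijective secMap_top_bijective
  have h3 := RingHom.Flat.comp h2 h1
  have e1 : ((𝟙 (Spec (CommRingCat.of A)) : Spec (CommRingCat.of A) ⟶ _).appLE ⊤ V le_top).hom.comp (secMap A ⊤).hom =
      (secMap A V).hom := by
    apply RingHom.ext
    intro a
    have e : (homOfLE (le_top : (⊤ : (Spec (CommRingCat.of A)).Opens) ≤ ⊤)).op = 𝟙 (op ⊤) := rfl
    have e2 : secMap A ⊤ ≫ (𝟙 (Spec (CommRingCat.of A)) : Spec (CommRingCat.of A) ⟶ _).appLE ⊤ V le_top =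
        secMap A V := by
      rw [secMap, e, CategoryTheory.Functor.map_id, Category.comp_id, secMap]
      rfl
    exact congr($e2 a)
  rwa [e1] at h3

include hR hA hV

theorem flat_ra : (ra h V).Flat := by
  have h1 := (limR h hV).flat (flat_compl hR hA (finiteType_secMap hV) (ideal_eq _ hV))
  exact RingHom.Flat.comp (flat_secMap hV) h1

theorem sbc_ta (M : ModuleCat.{u} A) [Module.Finite A M] : SBC (ra h V) (ta h M V) := by
  have h1 : Module.Finite (O (Spec (CommRingCat.of A)).sheaf V)
    (Sec (R := (Spec (CommRingCat.of A)).sheaf) (tilde (R := CommRingCat.of A) M) V) := (sbc_tau M hV).finite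
  exact (sbc_tau M hV).comp (sbc_cs h hV (isQCoh_tilde M)
    (ofTensorProduct_bijective (C := O (Spec (CommRingCat.of A)).sheaf V) (σ := (secMap A V).hom) hR hA
      (finiteType_secMap hV) (ideal_eq _ hV) _))

omit hV in
theorem hom_ext_ta (M : ModuleCat.{u} A) [Module.Finite A M]
    {P : FSch.ModF (FSch.completionAlong (Spec (CommRingCat.of A)) (FSch.idealSpec A (I.map (algebraMap R A)))) h}
    (φ ψ : (FSch.complMod (FSch.idealSpec A (I.map (algebraMap R A)))
      (tilde (R := CommRingCat.of A) M)).realMod h ⟶ P)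
    (e : ∀ m, app φ (hat _ ⊤) (ta h M ⊤ m) = app ψ (hat _ ⊤) (ta h M ⊤ m)) : φ = ψ := by
  refine (basis_hatAff _).hom_ext ?_
  rintro _ ⟨V, hV, rfl⟩ m
  have e1 : app φ (hat _ V) = app ψ (hat _ V) := (sbc_ta h hR hA hV M).hom_ext fun m => by
    rw [← ta_res h M (le_top : V ≤ ⊤) m, app_res, app_res, e]
  rw [e1]

omit hR hA hV in
theorem limR_top :
    LimR h (I.map (algebraMap R A)) (ra h ⊤) where
  surj n y := by
    obtain ⟨c, hc⟩ := (limR h (isAffineOpen_top (Spec (CommRingCat.of A)))).surj n y
    obtain ⟨a, ha⟩ := (secMap_top_bijective (A := A)).2 c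
    exact ⟨a, (congrArg (fun z => pk _ h n _ (cr (FSch.idealSpec A (I.map (algebraMap R A))) h ⊤ z)) ha).trans hc⟩
  ker n c := by
    refine ((limR h (isAffineOpen_top (Spec (CommRingCat.of A)))).ker n ((secMap A ⊤).hom c)).trans ?_
    have e1 : JV (FSch.idealSpec A (I.map (algebraMap R A))) (isAffineOpen_top (Spec (CommRingCat.of A))) =
      (I.map (algebraMap R A)).map (secMap A ⊤).hom := ideal_eq _ _
    have h2 := Ideal.comap_map_of_bijective (I := I.map (algebraMap R A) ^ (n + 1)) (secMap A ⊤).hom
      secMap_top_bijective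
    rw [Ideal.map_pow] at h2
    rw [e1]
    exact Ideal.ext_iff.1 h2 c

omit hR hA hV in
theorem sbc_level_top (M : ModuleCat.{u} A) (n : ℕ) :
    SBC ((pk (FSch.completionAlong (Spec (CommRingCat.of A)) (FSch.idealSpec A (I.map (algebraMap R A)))) h n
        (hat _ ⊤)).comp (ra h ⊤))
      ((ps (FSch.completionAlong (Spec (CommRingCat.of A)) (FSch.idealSpec A (I.map (algebraMap R A)))) h
        (FSch.complMod (FSch.idealSpec A (I.map (algebraMap R A))) (tilde (R := CommRingCat.of A) M)).F
        (FSch.complMod (FSch.idealSpec A (I.map (algebraMap R A))) (tilde (R := CommRingCat.of A) M)).toPush n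
        (hat _ ⊤)).comp (ta h M ⊤)) :=
  (sbc_tau_top M).comp (sbc_level h (isAffineOpen_top (Spec (CommRingCat.of A))) (isQCoh_tilde M) n)

omit hV in
theorem ta_top_bijective (M : ModuleCat.{u} A) [Module.Finite A M] : Function.Bijective (ta h M ⊤) := by
  have h1 := (limR_top h).isLimM (sbc_level_top h M)
  have h2 : IsAdicComplete (I.map (algebraMap R A)) M := K25.ArtinRees.isAdicComplete_of_finite hR hA M
  have h3 : Function.Bijective (AdicCompletion.of (I.map (algebraMap R A)) M) :=
    ⟨AdicCompletion.of_injective _ _, AdicCompletion.of_surjective _ _⟩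
  have h4 : (ta h M ⊤ : M → _) = h1.psi ∘ AdicCompletion.of (I.map (algebraMap R A)) M :=
    funext fun m => (h1.psi_of m).symm
  rw [h4]
  exact Function.Bijective.comp ⟨h1.psi_injective, h1.psi_surjective⟩ h3

omit hV in
theorem ra_top_bijective : Function.Bijective (ra h ⊤) := by
  have h1 := (limR_top h).isLim
  have h2 : IsAdicComplete (I.map (algebraMap R A)) A := K25.ArtinRees.isAdicComplete_of_finite hR hA A
  have h3 : Function.Bijective (AdicCompletion.of (I.map (algebraMap R A)) A) :=
    ⟨AdicCompletion.of_injective _ _, AdicCompletion.of_surjective _ _⟩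
  have h4 : (ra h ⊤ : A → _) = h1.psi ∘ AdicCompletion.of (I.map (algebraMap R A)) A :=
    funext fun m => (h1.psi_of m).symm
  rw [h4]
  exact Function.Bijective.comp ⟨h1.psi_injective, h1.psi_surjective⟩ h3

end Geo

end K390.VBase

end
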