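import Groth.Agent.FCompl.K390.VBase

/-!
# The functor `M ↦ M^Δ` on finite modules over an algebra topologically of finite type

* `dMap`, `comp_eq_zero`, `shortExact` (= S13349), `dMap_bijective` (= S13348), `shortExact_of_dMap` (= S13350 for
  finite modules).
-/

set_option autoImplicit false
set_option linter.style.haveILetI false

universe u

open CategoryTheory CategoryTheory.Limits AlgebraicGeometry TopologicalSpace Opposite
open K29.RSec K28 K28.BasisIso K390.CSec K390.VBase

noncomputable section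

namespace K390.VExact

variable {R : Type u} [CommRing R] {I : Ideal R} {A : Type u} [CommRing A] [Algebra R A]
  (h : (FSch.completionAlong (Spec (CommRingCat.of A)) (FSch.idealSpec A (I.map (algebraMap R A)))).IsFormal)

/-- The module `M^Δ`. -/
abbrev dObj (M : ModuleCat.{u} A) :
    FSch.ModF (FSch.completionAlong (Spec (CommRingCat.of A)) (FSch.idealSpec A (I.map (algebraMap R A)))) h :=
  (FSch.complMod (FSch.idealSpec A (I.map (algebraMap R A))) (tilde (R := CommRingCat.of A) M)).realMod h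

/-- The map `u^Δ`. -/
abbrev dMap {M N : ModuleCat.{u} A} (f : M ⟶ N) : dObj h M ⟶ dObj h N :=
  FSch.ModSys.realModMap h (FSch.complModMap (FSch.idealSpec A (I.map (algebraMap R A)))
    ((tilde.functor (CommRingCat.of A)).map f))

theorem app_dMap {M N : ModuleCat.{u} A} (f : M ⟶ N) (V : (Spec (CommRingCat.of A)).Opens) (m : M) :
    app (dMap h f) (hat _ V) (ta h M V m) = ta h N V (f m) := app_ta h f V m

variable (hR : AdicRing.IsBase R I) (hA : AdicRing.TopFiniteType R I A)

include hR hA

theorem comp_eq_zero {M N P : ModuleCat.{u} A} [Module.Finite A M] (f : M ⟶ N) (g : N ⟶ P) (hfg : f ≫ g = 0) :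
    dMap h f ≫ dMap h g = 0 := by
  refine hom_ext_ta h hR hA M _ _ fun m => ?_
  rw [app_comp, app_dMap, app_dMap]
  have h1 : g (f m) = 0 := congr($hfg m)
  rw [h1, map_zero]
  rfl

theorem shortExact (S : ShortComplex (ModuleCat.{u} A)) (hS : S.ShortExact)
    [Module.Finite A S.X₁] [Module.Finite A S.X₂] [Module.Finite A S.X₃] (w : dMap h S.f ≫ dMap h S.g = 0) :
    (ShortComplex.mk _ _ w).ShortExact := by
  have hinj := hS.moduleCat_injective_f
  have hsurj := hS.moduleCat_surjective_g
  have hex := (ShortComplex.ShortExact.moduleCat_exact_iff_function_exact S).1 hS.exact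
  refine (basis_hatAff _).shortExact _ ?_ ?_ ?_
  · rintro _ ⟨V, hV, rfl⟩
    exact (sbc_ta h hR hA hV S.X₁).injective (sbc_ta h hR hA hV S.X₂) (flat_ra h hR hA hV) S.f.hom
      (app (dMap h S.f) (hat _ V)) (app_dMap h S.f V) hinj
  · rintro _ ⟨V, hV, rfl⟩ m hm
    exact ((sbc_ta h hR hA hV S.X₁).exact (sbc_ta h hR hA hV S.X₂) (sbc_ta h hR hA hV S.X₃) (flat_ra h hR hA hV)
      S.f.hom S.g.hom (app (dMap h S.f) (hat _ V)) (app (dMap h S.g) (hat _ V)) (app_dMap h S.f V)
      (app_dMap h S.g V) hex m).1 hm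
  · rintro _ ⟨V, hV, rfl⟩
    exact (sbc_ta h hR hA hV S.X₃).surjective S.g.hom (app (dMap h S.g) (hat _ V)) (app_dMap h S.g V) hsurj

theorem dMap_injective {M N : ModuleCat.{u} A} [Module.Finite A N] (f g : M ⟶ N) (e : dMap h f = dMap h g) :
    f = g := by
  ext m
  apply (ta_top_bijective h hR hA N).1
  have h1 : app (dMap h f) (hat _ ⊤) (ta h M ⊤ m) = app (dMap h g) (hat _ ⊤) (ta h M ⊤ m) := by rw [e]
  rw [app_dMap, app_dMap] at h1
  exact h1

theorem dMap_surjective {M N : ModuleCat.{u} A} [Module.Finite A M] [Module.Finite A N]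
    (g : dObj h M ⟶ dObj h N) : ∃ f : M ⟶ N, dMap h f = g := by
  let e : N ≃+ Sec (dObj h N) (hat _ ⊤) := AddEquiv.ofBijective (ta h N ⊤) (ta_top_bijective h hR hA N)
  have he : ∀ n, e n = ta h N ⊤ n := fun n => rfl
  let f : M →ₗ[A] N :=
    { toFun := fun m => e.symm (app g (hat _ ⊤) (ta h M ⊤ m))
      map_add' := fun a b => by rw [map_add, map_add, map_add]
      map_smul' := fun a m => by
        rw [RingHom.id_apply, AddEquiv.symm_apply_eq, he, ta_smul, map_smul, ta_smul, ← he, AddEquiv.apply_symm_apply] }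
  refine ⟨ModuleCat.ofHom f, hom_ext_ta h hR hA M _ _ fun m => ?_⟩
  rw [app_dMap]
  exact e.apply_symm_apply _

/-- The functor `M ↦ M^Δ` reflects short exact sequences. -/
theorem shortExact_of_dMap {M₁ M₂ M₃ : ModuleCat.{u} A} [Module.Finite A M₁] [Module.Finite A M₂] [Module.Finite A M₃]
    (f : M₁ ⟶ M₂) (g : M₂ ⟶ M₃) (w : dMap h f ≫ dMap h g = 0) (hw : (ShortComplex.mk _ _ w).ShortExact) :
    ∃ w' : f ≫ g = 0, (ShortComplex.mk f g w').ShortExact := by
  have hb1 := ta_top_bijective h hR hA M₁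
  have hb2 := ta_top_bijective h hR hA M₂
  have hb3 := ta_top_bijective h hR hA M₃
  have hmono : Mono (dMap h f) := hw.mono_f
  have hepi : Epi (dMap h g) := hw.epi_g
  have hgf : ∀ m, g (f m) = 0 := fun m => by
    apply hb3.1
    rw [map_zero, ← app_dMap, ← app_dMap, ← app_comp, w]
    rfl
  have w' : f ≫ g = 0 := by
    ext m
    exact hgf m
  have hinj : Function.Injective f.hom := by
    intro a b hab
    apply hb1.1
    apply (K29.RExact.mono_iff_app (dMap h f)).1 hmono (hat _ ⊤)
    rw [app_dMap, app_dMap]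
    exact congrArg _ hab
  have hex : Function.Exact f.hom g.hom := by
    intro m
    constructor
    · intro hm
      obtain ⟨x, hx⟩ := @K29.RExact.exists_app_of_exact _ _ _ hw.exact hmono (hat _ ⊤) (ta h M₂ ⊤ m) (by
        refine (app_dMap h g ⊤ m).trans ?_
        have h1 : g m = 0 := hm
        rw [h1, map_zero])
      obtain ⟨m', rfl⟩ := hb1.2 x
      refine ⟨m', hb2.1 ?_⟩
      rw [← hx]
      exact (app_dMap h f ⊤ m').symm
    · rintro ⟨m', rfl⟩
      exact hgf m'
  have hsurj : Function.Surjective g.hom := by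
    let π : M₃ ⟶ ModuleCat.of A (M₃ ⧸ LinearMap.range g.hom) := ModuleCat.ofHom (Submodule.mkQ _)
    have h1 : dMap h g ≫ dMap h π = 0 := comp_eq_zero h hR hA g π (by
      ext m
      exact (Submodule.Quotient.mk_eq_zero _).2 ⟨m, rfl⟩)
    have h2 : dMap h π = 0 := by
      rw [← cancel_epi (dMap h g), h1, comp_zero]
    intro m
    have h3 : π m = 0 := by
      apply (ta_top_bijective h hR hA (ModuleCat.of A (M₃ ⧸ LinearMap.range g.hom))).1
      rw [map_zero, ← app_dMap, h2]
      rfl
    exact (Submodule.Quotient.mk_eq_zero _).1 h3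
  refine ⟨w', ?_⟩
  exact ModuleCat.shortComplex_shortExact (ShortComplex.mk f g w') hex hinj hsurj

end K390.VExact

end
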