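import Groth.Agent.FCompl.K390.VIso
import Groth.Agent.FCompl.K390.FpDesc
import Mathlib.AlgebraicGeometry.ResidueField

/-!
# Modules of finite presentation on `Spf A` for `A` topologically of finite type: descent of finite presentation

* `ker_chi`: evaluation at points of `Spec A`; `mem_range`: the points of `Spf A`;
* `jointly_faithful`: `A → O_𝔛(V̂_i)` is jointly faithful if the `V_i` cover the closed points;
* `fp_sec`: the sections of a module of finite presentation over small good opens;
* `main`: every module of finite presentation is `M^Δ` with `M` of finite presentation (= S13351).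
-/

set_option autoImplicit false
set_option linter.style.haveILetI false

universe u

open CategoryTheory CategoryTheory.Limits AlgebraicGeometry TopologicalSpace Opposite
open K29.RSec K29.RStalk K29.RPull K29.RPres K28 K28.RealSec K28.BasisIso K28.ToSch
open Groth.Agent.Fcompl.H552.IdealSpec K390.CLimAlg K390.CSec K390.TildeSec K390.VBase K390.VGood K390.VSpf

open scoped TensorProduct

noncomputable section

namespace K390.VFp

section Points

variable {A : Type u} [CommRing A]

theorem mem_basicOpen_secMap {V : (Spec (CommRingCat.of A)).Opens} (x : Spec (CommRingCat.of A)) (hx : x ∈ V) (a : A) :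
    x ∈ (Spec (CommRingCat.of A)).basicOpen (secMap A V a) ↔ a ∉ x.asIdeal := by
  have e : (Spec (CommRingCat.of A)).basicOpen (secMap A V a) =
      V ⊓ (Spec (CommRingCat.of A)).basicOpen ((Scheme.ΓSpecIso (CommRingCat.of A)).inv a) :=
    Scheme.basicOpen_res (Spec (CommRingCat.of A)) ((Scheme.ΓSpecIso (CommRingCat.of A)).inv a) (homOfLE le_top).op
  rw [e, basicOpen_eq_of_affine]
  exact ⟨fun h => h.2, fun h => ⟨hx, h⟩⟩

/-- Evaluation at a point. -/
def chi (V : (Spec (CommRingCat.of A)).Opens) (x : Spec (CommRingCat.of A)) (hx : x ∈ V) :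
    Γ(Spec (CommRingCat.of A), V) →+* (Spec (CommRingCat.of A)).residueField x :=
  ((Spec (CommRingCat.of A)).evaluation V x hx).hom

theorem chi_secMap (V : (Spec (CommRingCat.of A)).Opens) (x : Spec (CommRingCat.of A)) (hx : x ∈ V) (a : A) :
    chi V x hx (secMap A V a) = 0 ↔ a ∈ x.asIdeal := by
  have h1 := (Spec (CommRingCat.of A)).evaluation_eq_zero_iff_notMem_basicOpen x hx (secMap A V a)
  rw [mem_basicOpen_secMap x hx, not_not] at h1
  exact h1

/-- The points of the completion. -/
theorem mem_range (J : Ideal A) (x : Spec (CommRingCat.of A)) (hx : J ≤ x.asIdeal) :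
    x ∈ Set.range (FSch.completionToX (Spec (CommRingCat.of A)) (FSch.idealSpec A J) 0) := by
  have h1 : Set.range (FSch.completionToX (Spec (CommRingCat.of A)) (FSch.idealSpec A J) 0) =
      (FSch.idealSpec A J).support := (FSch.idealSpec A J ^ (0 + 1)).range_subschemeι
  rw [h1]
  have h2 := Scheme.IdealSheafData.mem_support_iff_of_mem (I := FSch.idealSpec A J) (x := x)
    (U := ⟨⊤, isAffineOpen_top _⟩) trivial
  refine h2.2 ?_
  rw [Scheme.mem_zeroLocus_iff]
  intro f hf
  rw [ideal_eq J (isAffineOpen_top _)] at hf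
  have h3 : J.map (secMap A ⊤).hom ≤ RingHom.ker (chi ⊤ x trivial) := by
    rw [Ideal.map_le_iff_le_comap]
    intro a ha
    exact (chi_secMap ⊤ x trivial a).2 (hx ha)
  exact ((Spec (CommRingCat.of A)).evaluation_eq_zero_iff_notMem_basicOpen (U := ⊤) x trivial f).1 (h3 hf)

end Points

variable {R : Type u} [CommRing R] {I : Ideal R} {A : Type u} [CommRing A] [Algebra R A]
  (h : (FSch.completionAlong (Spec (CommRingCat.of A)) (FSch.idealSpec A (I.map (algebraMap R A)))).IsFormal)
  (hR : AdicRing.IsBase R I) (hA : AdicRing.TopFiniteType R I A)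

/-- The local rings at maximal ideals are seen by the completions. -/
theorem map_ne_top {V : (Spec (CommRingCat.of A)).Opens} (hV : IsAffineOpen V) (x : Spec (CommRingCat.of A))
    (hx : x ∈ V) (hJ : I.map (algebraMap R A) ≤ x.asIdeal) : x.asIdeal.map (ra h V) ≠ ⊤ := by
  intro htop
  have h1 : (1 : O _ (hat _ V)) ∈ x.asIdeal.map (ra h V) := by rw [htop]; trivial
  have h2 : (x.asIdeal.map (ra h V)).map (pk (FSch.completionAlong (Spec (CommRingCat.of A))
      (FSch.idealSpec A (I.map (algebraMap R A)))) h 0 (hat _ V)) =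
      (x.asIdeal.map (secMap A V).hom).map ((pk (FSch.completionAlong (Spec (CommRingCat.of A))
      (FSch.idealSpec A (I.map (algebraMap R A)))) h 0 (hat _ V)).comp (cr _ h V)) := by
    rw [Ideal.map_map]
    exact (Ideal.map_map (secMap A V).hom ((pk (FSch.completionAlong (Spec (CommRingCat.of A))
      (FSch.idealSpec A (I.map (algebraMap R A)))) h 0 (hat _ V)).comp (cr _ h V))).symm
  have h3 := Ideal.mem_map_of_mem (pk (FSch.completionAlong (Spec (CommRingCat.of A))
      (FSch.idealSpec A (I.map (algebraMap R A)))) h 0 (hat _ V)) h1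
  rw [h2, map_one] at h3
  obtain ⟨c, hc, hc1⟩ := (Ideal.mem_map_iff_of_surjective ((pk (FSch.completionAlong (Spec (CommRingCat.of A))
      (FSch.idealSpec A (I.map (algebraMap R A)))) h 0 (hat _ V)).comp (cr _ h V)) (fun y => (limR h hV).surj 0 y)).1 h3
  have h4 : (1 : O (Spec (CommRingCat.of A)).sheaf V) - c ∈
      JV (FSch.idealSpec A (I.map (algebraMap R A))) hV ^ (0 + 1) := by
    refine ((limR h hV).ker 0 _).1 ?_
    rw [map_sub, map_sub, map_one, map_one, sub_eq_zero]
    exact hc1.symm
  have e1 : JV (FSch.idealSpec A (I.map (algebraMap R A))) hV = (I.map (algebraMap R A)).map (secMap A V).hom :=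
    ideal_eq _ hV
  rw [zero_add, pow_one, e1] at h4
  have h5 : x.asIdeal.map (secMap A V).hom ≤ RingHom.ker (chi V x hx) := by
    rw [Ideal.map_le_iff_le_comap]
    intro a ha
    exact (chi_secMap V x hx a).2 ha
  have h6 := h5 (Ideal.map_mono hJ h4)
  have h7 := h5 hc
  have h8 : chi V x hx 1 = 0 := by
    have h9 : chi V x hx 1 - chi V x hx c = 0 := (map_sub (chi V x hx) 1 c).symm.trans h6
    have h10 : chi V x hx c = 0 := h7
    rwa [h10, sub_zero] at h9
  rw [map_one] at h8
  exact one_ne_zero h8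

include hR hA in
/-- The completed localizations are jointly faithful. -/
theorem jointly_faithful {ι : Type*} (V : ι → (Spec (CommRingCat.of A)).Opens) (hV : ∀ i, IsAffineOpen (V i))
    (hcov : ∀ x : Spec (CommRingCat.of A), I.map (algebraMap R A) ≤ x.asIdeal → ∃ i, x ∈ V i)
    (N : Type u) [AddCommGroup N] [Module A N]
    (hN : ∀ i, letI := (ra h (V i)).toAlgebra
      Subsingleton (O ((FSch.completionAlong (Spec (CommRingCat.of A))
        (FSch.idealSpec A (I.map (algebraMap R A)))).Osh h) (hat _ (V i)) ⊗[A] N)) : Subsingleton N := by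
  by_contra hne
  rw [not_subsingleton_iff_nontrivial] at hne
  obtain ⟨x, hx⟩ := exists_ne (0 : N)
  let 𝔞 : Ideal A := LinearMap.ker (LinearMap.toSpanSingleton A N x)
  have h𝔞 : 𝔞 ≠ ⊤ := by
    intro htop
    have h1 : (1 : A) ∈ 𝔞 := by rw [htop]; trivial
    rw [LinearMap.mem_ker, LinearMap.toSpanSingleton_apply, one_smul] at h1
    exact hx h1
  obtain ⟨m, hm, h𝔞m⟩ := Ideal.exists_le_maximal 𝔞 h𝔞
  have hcA : IsAdicComplete (I.map (algebraMap R A)) A := K25.ArtinRees.isAdicComplete_of_finite hR hA A
  have hJm : I.map (algebraMap R A) ≤ m := (IsAdicComplete.le_jacobson_bot _).trans (sInf_le ⟨bot_le, hm⟩)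
  let y : Spec (CommRingCat.of A) := (⟨m, hm.isPrime⟩ : PrimeSpectrum A)
  obtain ⟨i, hi⟩ := hcov y hJm
  letI := (ra h (V i)).toAlgebra
  have hflat : Module.Flat A (O ((FSch.completionAlong (Spec (CommRingCat.of A))
        (FSch.idealSpec A (I.map (algebraMap R A)))).Osh h) (hat _ (V i))) := flat_ra h hR hA (hV i)
  have hne' := map_ne_top h (hV i) y hi hJm
  apply hne'
  have hsub := hN i
  -- `B / 𝔞 B` embeds in `B ⊗ N`
  have h1 : Function.Injective ((𝔞.liftQ (LinearMap.toSpanSingleton A N x) le_rfl).lTensor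
      (O ((FSch.completionAlong (Spec (CommRingCat.of A))
        (FSch.idealSpec A (I.map (algebraMap R A)))).Osh h) (hat _ (V i)))) :=
    Module.Flat.lTensor_preserves_injective_linearMap _ (LinearMap.ker_eq_bot.1 (Submodule.ker_liftQ_eq_bot' _ _ rfl))
  have h2 : Subsingleton (O ((FSch.completionAlong (Spec (CommRingCat.of A))
        (FSch.idealSpec A (I.map (algebraMap R A)))).Osh h) (hat _ (V i)) ⊗[A] (A ⧸ 𝔞)) := h1.subsingleton
  have h3 : Function.Surjective ((Submodule.factor h𝔞m).lTensor (O ((FSch.completionAlong (Spec (CommRingCat.of A))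
        (FSch.idealSpec A (I.map (algebraMap R A)))).Osh h) (hat _ (V i)))) :=
    LinearMap.lTensor_surjective _ (Submodule.factor_surjective h𝔞m)
  have h4 := h3.subsingleton
  have h5 := (TensorProduct.tensorQuotEquivQuotSMul (O ((FSch.completionAlong (Spec (CommRingCat.of A))
        (FSch.idealSpec A (I.map (algebraMap R A)))).Osh h) (hat _ (V i))) m).symm.injective.subsingleton
  rw [Submodule.Quotient.subsingleton_iff, Ideal.smul_top_eq_map] at h5
  rw [Ideal.eq_top_iff_one]
  have h6 : (1 : O ((FSch.completionAlong (Spec (CommRingCat.of A))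
        (FSch.idealSpec A (I.map (algebraMap R A)))).Osh h) (hat _ (V i))) ∈ Submodule.restrictScalars A
        (m.map (algebraMap A (O ((FSch.completionAlong (Spec (CommRingCat.of A))
        (FSch.idealSpec A (I.map (algebraMap R A)))).Osh h) (hat _ (V i))))) := by
    rw [h5]; trivial
  exact h6

/-- Sections of a module of finite presentation over small good opens. -/
theorem fp_sec {𝔛 : FSch.Sys.{u}} {h : 𝔛.IsFormal} {𝔉 : FSch.ModF 𝔛 h} {W V : (𝔛.X 0).Opens} (hV : GV h V) (hVW : V ≤ W)
    (hB : Basis (T := (𝔛.X 0).carrier) {V | GV h V})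
    (hq : ∀ k, Coh.IsQCoh (show (𝔛.X k).Modules from K29.Fml.lv h k 𝔉)) {n m : ℕ}
    {s : Fin n → Sec 𝔉 W} {r : Fin m → Fin n → O (𝔛.Osh h) W}
    (hs : Gen 𝔉 W s) (hr : Rel 𝔉 W s r) : Module.FinitePresentation (O (𝔛.Osh h) V) (Sec 𝔉 V) := by
  let φ : (Fin n → O (𝔛.Osh h) V) →ₗ[O (𝔛.Osh h) V] Sec 𝔉 V :=
    Fintype.linearCombination (O (𝔛.Osh h) V) (fun j => res 𝔉 hVW (s j))
  have hφ : Function.Surjective φ := by
    intro t
    obtain ⟨c, hc⟩ := VGood.exists_eq_sum h hV hVW hB hq hs hr t
    exact ⟨c, hc.symm⟩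
  refine Module.finitePresentation_of_free_of_surjective φ hφ ?_
  have e : LinearMap.ker φ = Submodule.span _ (Set.range fun l => fun j => resO hVW (r l j)) := by
    apply le_antisymm
    · intro c hc
      obtain ⟨d, hd⟩ := VGood.exists_rel h hV hVW hs hr c hc
      have : c = ∑ l, d l • (fun j => resO hVW (r l j)) := by
        funext j
        rw [hd j, Finset.sum_apply]
        rfl
      rw [this]
      exact Submodule.sum_mem _ fun l _ => Submodule.smul_mem _ _ (Submodule.subset_span ⟨l, rfl⟩)
    · rw [Submodule.span_le]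
      rintro _ ⟨l, rfl⟩
      refine VGood.sum_rel_eq_zero h hVW hr _ (Pi.single l 1) fun j => ?_
      simp [Pi.single_apply]
  rw [e]
  exact Submodule.fg_span (Set.finite_range _)

include hR hA in
/-- The traces of affine opens form a basis of good opens. -/
theorem basis_good : Basis (T := ((FSch.completionAlong (Spec (CommRingCat.of A))
    (FSch.idealSpec A (I.map (algebraMap R A)))).X 0).carrier) {V | GV h V} := by
  intro x W hx
  obtain ⟨_, ⟨V, hV, rfl⟩, hxV, hle⟩ := basis_hatAff (FSch.idealSpec A (I.map (algebraMap R A))) x W hx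
  exact ⟨_, good h hR hA hV, hxV, hle⟩

theorem fp_of_sbc {A B : Type u} [CommRing A] [CommRing B] {ρ : A →+* B} {M Q : Type u} [AddCommGroup M] [Module A M]
    [AddCommGroup Q] [Module B Q] {g : M →+ Q} (hg : SBC ρ g) (hQ : Module.FinitePresentation B Q) :
    letI := ρ.toAlgebra
    Module.FinitePresentation B (B ⊗[A] M) := by
  letI : Algebra A B := ρ.toAlgebra
  letI : Module A Q := Module.compHom Q ρ
  haveI : IsScalarTower A B Q := SBC.tower ρ
  exact Module.FinitePresentation.of_equiv hg.isBaseChange'.equiv.symm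

include hR hA in
theorem main (F : FSch.ModF (FSch.completionAlong (Spec (CommRingCat.of A))
      (FSch.idealSpec A (I.map (algebraMap R A)))) h)
    (hF : FSch.IsCohF (FSch.completionAlong (Spec (CommRingCat.of A))
      (FSch.idealSpec A (I.map (algebraMap R A)))) h F) :
    ∃ M : ModuleCat.{u} A, Module.FinitePresentation A M ∧ Nonempty (F ≅ VExact.dObj h M) := by
  have hB := basis_good h hR hA
  have hq := VGood.isQCoh_lv h F hF
  have i1 := VGood.isIso_toReal h F hB hF
  have h0 := LevelBC.finite_sections (VGood.isCoh_lv h F hF 0)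
    (isAffineOpen_hat (𝓘 := FSch.idealSpec A (I.map (algebraMap R A))) h (isAffineOpen_top _) 0)
  obtain ⟨M, hM, ⟨e⟩⟩ := VIso.exists_iso h hR hA (𝔐 := K29.Fml.sysOf h F) hq h0
  let E : F ≅ VExact.dObj h M := @asIso _ _ _ _ _ i1 ≪≫ e
  refine ⟨M, ?_, ⟨E⟩⟩
  -- local presentations
  have hloc : ∀ x : (FSch.completionAlong (Spec (CommRingCat.of A)) (FSch.idealSpec A (I.map (algebraMap R A)))).X 0,
      ∃ V : (Spec (CommRingCat.of A)).Opens, IsAffineOpen V ∧ x ∈ hat (FSch.idealSpec A (I.map (algebraMap R A))) V ∧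
        Module.FinitePresentation (O ((FSch.completionAlong (Spec (CommRingCat.of A))
          (FSch.idealSpec A (I.map (algebraMap R A)))).Osh h) (hat (FSch.idealSpec A (I.map (algebraMap R A))) V))
          (Sec F (hat _ V)) := by
    intro x
    obtain ⟨W, hxW, n, m, s, r, hs, hr⟩ :=
      (fpAt_iff F x).1 ((Groth.Agent.Gaga.H976.TM3.isFinitePresentation_iff F).1 hF x)
    obtain ⟨_, ⟨V, hV, rfl⟩, hxV, hle⟩ := basis_hatAff (FSch.idealSpec A (I.map (algebraMap R A))) x W hxW
    exact ⟨V, hV, hxV, fp_sec (good h hR hA hV) hle hB hq hs hr⟩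
  choose V hV hxV hfp using hloc
  -- a finite subcover
  have hcomp : IsCompact (Set.univ : Set ((FSch.completionAlong (Spec (CommRingCat.of A))
      (FSch.idealSpec A (I.map (algebraMap R A)))).X 0)) := by
    have h1 := (isAffineOpen_hat (𝓘 := FSch.idealSpec A (I.map (algebraMap R A))) h (isAffineOpen_top _) 0).isCompact
    rw [K919.AffBasic.lvU_zero] at h1
    exact h1
  let UU : (FSch.completionAlong (Spec (CommRingCat.of A)) (FSch.idealSpec A (I.map (algebraMap R A)))).X 0 →
      Set ((FSch.completionAlong (Spec (CommRingCat.of A)) (FSch.idealSpec A (I.map (algebraMap R A)))).X 0) :=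
    fun x => (hat (FSch.idealSpec A (I.map (algebraMap R A))) (V x)).1
  obtain ⟨t, ht⟩ := hcomp.elim_finite_subcover UU
    (fun x => (hat (FSch.idealSpec A (I.map (algebraMap R A))) (V x)).isOpen)
    (fun x _ => Set.mem_iUnion.2 ⟨x, hxV x⟩)
  have hcov : ∀ x : Spec (CommRingCat.of A), I.map (algebraMap R A) ≤ x.asIdeal → ∃ i : t, x ∈ V i := by
    intro x hx
    obtain ⟨y, rfl⟩ := mem_range _ x hx
    obtain ⟨i, hi⟩ := Set.mem_iUnion.1 (ht (Set.mem_univ y))
    obtain ⟨hit, hy⟩ := Set.mem_iUnion.1 hi
    exact ⟨⟨i, hit⟩, hy⟩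
  letI alg : ∀ i : t, Algebra A (O ((FSch.completionAlong (Spec (CommRingCat.of A))
    (FSch.idealSpec A (I.map (algebraMap R A)))).Osh h) (hat (FSch.idealSpec A (I.map (algebraMap R A))) (V i))) :=
    fun i => (ra h (V i)).toAlgebra
  haveI flat : ∀ i : t, Module.Flat A (O ((FSch.completionAlong (Spec (CommRingCat.of A))
    (FSch.idealSpec A (I.map (algebraMap R A)))).Osh h) (hat (FSch.idealSpec A (I.map (algebraMap R A))) (V i))) :=
    fun i => flat_ra h hR hA (hV i)
  refine FpDesc.finitePresentation (fun i : t => O ((FSch.completionAlong (Spec (CommRingCat.of A))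
    (FSch.idealSpec A (I.map (algebraMap R A)))).Osh h) (hat (FSch.idealSpec A (I.map (algebraMap R A))) (V i)))
    (fun N _ _ hN => jointly_faithful h hR hA (fun i : t => V i) (fun i => hV i) hcov N hN) M (fun i => ?_)
  let E' : Sec F (hat _ (V i)) ≃ₗ[O ((FSch.completionAlong (Spec (CommRingCat.of A))
      (FSch.idealSpec A (I.map (algebraMap R A)))).Osh h) (hat (FSch.idealSpec A (I.map (algebraMap R A))) (V i))]
      Sec (VExact.dObj h M) (hat _ (V i)) := LinearEquiv.ofLinearMap (app E.hom _) (app E.inv _) (by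
        ext m
        have e1 := congrArg (fun g => app g (hat _ (V i)) m) E.inv_hom_id
        exact e1) (by
        ext m
        have e1 := congrArg (fun g => app g (hat _ (V i)) m) E.hom_inv_id
        exact e1)
  have h2 := hfp i
  exact fp_of_sbc (sbc_ta h hR hA (hV i) M) (Module.FinitePresentation.of_equiv E')

end K390.VFp

end
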