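import Groth.Agent.FCompl.K29.FmlSys
import Groth.Agent.FCompl.K28.BasisIso

/-!
# Modules of finite presentation on a formal scheme with a basis of good opens

`GV h V`: `V` is good, that is, the levels are affine, `O_𝔛(V) → O_{X k}(V)` is surjective with kernel `II(V)^(k+1)`
and the finite `O_𝔛(V)`-modules are `II(V)`-complete.  The arguments of `K29.FmlPres`, `K29.FmlSys` for good opens:
`exists_eq_sum`, `exists_rel`, `isIso_toReal`.
-/

set_option autoImplicit false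
set_option linter.style.haveILetI false
universe u

open CategoryTheory TopologicalSpace Opposite CategoryTheory.Limits AlgebraicGeometry

noncomputable section

namespace K390.VGood

open K29.RSec K29.RStalk K29.RPull K29.RPres K29.Fml K29 K28.BasisIso

section Alg

variable {A : Type u} [CommRing A] (I : Ideal A) {n : ℕ}

variable (P : Submodule A (Fin n → A)) (h1 : IsAdicComplete I ((Fin n → A) ⧸ P))

include h1

theorem mem_of_forall (c : Fin n → A) (hc : ∀ k : ℕ, ∃ p ∈ P, ∀ j, c j - p j ∈ I ^ (k + 1)) : c ∈ P := by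
  rw [← Submodule.Quotient.mk_eq_zero]
  refine IsHausdorff.haus h1.toIsHausdorff _ fun k => ?_
  obtain ⟨p, hp, hcp⟩ := hc k
  have h2 : c - p ∈ (I ^ k • ⊤ : Submodule A (Fin n → A)) :=
    mem_smul_top_of_forall I k _ fun j => Ideal.pow_le_pow_right (Nat.le_succ k) (hcp j)
  have h3 : P.mkQ (c - p) ∈ (I ^ k • ⊤ : Submodule A ((Fin n → A) ⧸ P)) := by
    have := Submodule.mem_map_of_mem (f := P.mkQ) h2
    rw [Submodule.map_smul''] at this
    exact Submodule.smul_mono le_rfl le_top this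
  rw [map_sub, Submodule.mkQ_apply, Submodule.mkQ_apply, (Submodule.Quotient.mk_eq_zero P).2 hp, sub_zero] at h3
  rw [SModEq.zero]
  exact h3

theorem exists_lim (c : ℕ → Fin n → A)
    (hc : ∀ k, ∃ p ∈ P, ∀ j, c (k + 1) j - c k j - p j ∈ I ^ (k + 1)) :
    ∃ c' : Fin n → A, ∀ k, ∃ p ∈ P, ∀ j, c' j - c k j - p j ∈ I ^ (k + 1) := by
  have hstep : ∀ k, P.mkQ (c k) ≡ P.mkQ (c (k + 1)) [SMOD (I ^ (k + 1) • ⊤ : Submodule A ((Fin n → A) ⧸ P))] := by
    intro k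
    obtain ⟨p, hp, hcp⟩ := hc k
    have h2 : c (k + 1) - c k - p ∈ (I ^ (k + 1) • ⊤ : Submodule A (Fin n → A)) :=
      mem_smul_top_of_forall I (k + 1) _ hcp
    have h3 : P.mkQ (c (k + 1) - c k - p) ∈ (I ^ (k + 1) • ⊤ : Submodule A ((Fin n → A) ⧸ P)) := by
      have := Submodule.mem_map_of_mem (f := P.mkQ) h2
      rw [Submodule.map_smul''] at this
      exact Submodule.smul_mono le_rfl le_top this
    rw [map_sub, map_sub, Submodule.mkQ_apply P p, (Submodule.Quotient.mk_eq_zero P).2 hp, sub_zero] at h3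
    exact (SModEq.sub_mem.2 h3).symm
  have hcau : ∀ {m k : ℕ}, m ≤ k → P.mkQ (c m) ≡ P.mkQ (c k) [SMOD (I ^ m • ⊤ : Submodule A ((Fin n → A) ⧸ P))] := by
    intro m k hmk
    induction hmk with
    | refl => exact SModEq.rfl
    | @step k hk ih =>
      exact ih.trans ((hstep k).mono (Submodule.smul_mono (Ideal.pow_le_pow_right (Nat.le_succ_of_le hk)) le_rfl))
  obtain ⟨L, hL⟩ := IsPrecomplete.prec h1.toIsPrecomplete (f := fun k => P.mkQ (c k)) hcau
  obtain ⟨c', rfl⟩ := Submodule.mkQ_surjective P L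
  refine ⟨c', fun k => ?_⟩
  have h4 : P.mkQ (c' - c k) ∈ (I ^ (k + 1) • ⊤ : Submodule A ((Fin n → A) ⧸ P)) := by
    rw [map_sub]
    exact SModEq.sub_mem.1 ((hstep k).trans (hL (k + 1))).symm
  have h5 : (I ^ (k + 1) • ⊤ : Submodule A ((Fin n → A) ⧸ P)) =
      Submodule.map P.mkQ (I ^ (k + 1) • ⊤ : Submodule A (Fin n → A)) := by
    rw [Submodule.map_smul'', Submodule.map_top, Submodule.range_mkQ]
  rw [h5] at h4
  obtain ⟨z, hz, hzc⟩ := h4
  refine ⟨c' - c k - z, ?_, fun j => ?_⟩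
  · rw [← Submodule.Quotient.mk_eq_zero, ← Submodule.mkQ_apply, map_sub, hzc, sub_self]
  · have := forall_of_mem_smul_top I (k + 1) z hz j
    simpa using this

end Alg

variable {𝔛 : FSch.Sys.{u}}

/-- Good opens. -/
structure GV (h : 𝔛.IsFormal) (V : (𝔛.X 0).Opens) : Prop where
  aff : IsAffineOpen (𝔛.lvU h 0 V)
  surj : ∀ k, Function.Surjective (prO h k V)
  mem_pow : ∀ k (x : O (𝔛.Osh h) V), x ∈ II h V ^ (k + 1) ↔ prO h k V x = 0
  compl : ∀ (M : Type u) [AddCommGroup M] [Module (O (𝔛.Osh h) V) M] [Module.Finite (O (𝔛.Osh h) V) M],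
    IsAdicComplete (II h V) M

theorem GV.aff_lv {h : 𝔛.IsFormal} {V : (𝔛.X 0).Opens} (hV : GV h V) (k : ℕ) : IsAffineOpen (𝔛.lvU h k V) :=
  K919.AffBasic.isAffineOpen_lvU 𝔛 h hV.aff k

variable (h : 𝔛.IsFormal)

section Local

variable {𝔉 : Mod (𝔛.Osh h)} {W V : (𝔛.X 0).Opens} (hV : GV h V) (hVW : V ≤ W)
  {n m : ℕ} {s : Fin n → Sec 𝔉 W} {r : Fin m → Fin n → O (𝔛.Osh h) W}

include hV in
/-- A relation at level `k` is a relation up to `𝓘^{k+1}`. -/
theorem exists_rel_mod (hs : Gen 𝔉 W s) (hr : Rel 𝔉 W s r) (k : ℕ) (c : Fin n → O (𝔛.Osh h) V)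
    (hc : ul h k V (∑ j, c j • res 𝔉 hVW (s j)) = 0) :
    ∃ d : Fin m → O (𝔛.Osh h) V, ∀ j,
      c j - ∑ l, d l * resO hVW (r l j) ∈ II h V ^ (k + 1) := by
  have h1 : ∑ j, prO h k V (c j) • res (lv h k 𝔉) (lvU_mono h k hVW) (ul h k W (s j)) = 0 := by
    rw [← hc, map_sum]
    exact Finset.sum_congr rfl fun j _ => by rw [ul_smul, ul_res]
  obtain ⟨d, hd⟩ := AffPres.exists_rel (lv h k 𝔉) (hV.aff_lv k)
    (lvU_mono h k hVW) (rel_pull (lvAdj h k) hs hr) (fun j => prO h k V (c j)) h1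
  choose d' hd' using fun l => hV.surj k (d l)
  refine ⟨d', fun j => ?_⟩
  rw [hV.mem_pow k, map_sub, map_sum, sub_eq_zero]
  refine (hd j).trans (Finset.sum_congr rfl fun l _ => ?_)
  rw [map_mul, prO_res, hd']

include hV in
/-- The `r k` generate the relations over every affine open. -/
theorem exists_rel_of_forall (hs : Gen 𝔉 W s) (hr : Rel 𝔉 W s r) (c : Fin n → O (𝔛.Osh h) V)
    (hc : ∀ k, ul h k V (∑ j, c j • res 𝔉 hVW (s j)) = 0) :
    ∃ d : Fin m → O (𝔛.Osh h) V, ∀ j, c j = ∑ l, d l * resO hVW (r l j) := by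
  let P : Submodule (O (𝔛.Osh h) V) (Fin n → O (𝔛.Osh h) V) :=
    Submodule.span _ (Set.range fun k => fun j => resO hVW (r k j))
  have key : c ∈ P := by
    refine mem_of_forall (II h V) P (hV.compl _) c fun k => ?_
    obtain ⟨d, hd⟩ := exists_rel_mod h hV hVW hs hr k c (hc k)
    refine ⟨∑ l, d l • fun j => resO hVW (r l j), P.sum_mem fun l _ =>
      P.smul_mem _ (Submodule.subset_span ⟨l, rfl⟩), fun j => ?_⟩
    have := hd j
    rw [Finset.sum_apply]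
    exact this
  obtain ⟨d, hd⟩ := (Submodule.mem_span_range_iff_exists_fun _).1 key
  refine ⟨d, fun j => ?_⟩
  have := congrFun hd j
  simpa using this.symm

theorem sum_rel_eq_zero (hr : Rel 𝔉 W s r) (c : Fin n → O (𝔛.Osh h) V) (d : Fin m → O (𝔛.Osh h) V)
    (hd : ∀ j, c j = ∑ l, d l * resO hVW (r l j)) : ∑ j, c j • res 𝔉 hVW (s j) = 0 := by
  have h1 : ∀ l, ∑ j, resO hVW (r l j) • res 𝔉 hVW (s j) = 0 := by
    intro l
    have := congrArg (res 𝔉 hVW) (hr.1 l)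
    rw [map_sum, map_zero] at this
    rw [← this]
    exact Finset.sum_congr rfl fun j _ => (res_smul 𝔉 hVW _ _).symm
  simp only [hd, Finset.sum_smul, mul_smul]
  rw [Finset.sum_comm]
  exact Finset.sum_eq_zero fun l _ => by rw [← Finset.smul_sum, h1, smul_zero]

variable (hB : Basis (T := (𝔛.X 0).carrier) {V | GV h V})

include hB in
/-- Separatedness of `𝔉` for the projections to the levels. -/
theorem eq_zero_of_ul (hs : Gen 𝔉 W s) (hr : Rel 𝔉 W s r) (hVW : V ≤ W) (t : Sec 𝔉 V)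
    (ht : ∀ k, ul h k V t = 0) : t = 0 := by
  refine eq_of_forall_nhds 𝔉 t 0 fun x hx => ?_
  obtain ⟨V', hV', hxV', c, hc⟩ := hs V hVW t x hx
  obtain ⟨V'', hV2, hxV'', hle⟩ := hB x V' hxV'
  refine ⟨V'', hxV'', hle.trans hV', ?_⟩
  have h1 : res 𝔉 (hle.trans hV') t = ∑ j, resO hle (c j) • res 𝔉 ((hle.trans hV').trans hVW) (s j) := by
    rw [← res_res 𝔉 hV' hle, hc, map_sum]
    exact Finset.sum_congr rfl fun j _ => by rw [res_smul, res_res]
  obtain ⟨d, hd⟩ := exists_rel_of_forall h hV2 ((hle.trans hV').trans hVW) hs hr (fun j => resO hle (c j))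
    (fun k => by rw [← h1, ul_res, ht, map_zero])
  rw [h1, sum_rel_eq_zero h ((hle.trans hV').trans hVW) hr _ d hd, map_zero]

include hV in
/-- Completeness of `𝔉` for the projections to the levels. -/
theorem exists_limit_sum (hs : Gen 𝔉 W s) (hr : Rel 𝔉 W s r) (c : ℕ → Fin n → O (𝔛.Osh h) V)
    (hc : ∀ k, ul h k V (∑ j, (c (k + 1) j - c k j) • res 𝔉 hVW (s j)) = 0) :
    ∃ c' : Fin n → O (𝔛.Osh h) V, ∀ k, ul h k V (∑ j, (c' j - c k j) • res 𝔉 hVW (s j)) = 0 := by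
  let P : Submodule (O (𝔛.Osh h) V) (Fin n → O (𝔛.Osh h) V) :=
    Submodule.span _ (Set.range fun k => fun j => resO hVW (r k j))
  obtain ⟨c', hc'⟩ := exists_lim (II h V) P (hV.compl _) c fun k => by
    obtain ⟨d, hd⟩ := exists_rel_mod h hV hVW hs hr k (fun j => c (k + 1) j - c k j) (hc k)
    refine ⟨∑ l, d l • fun j => resO hVW (r l j), P.sum_mem fun l _ =>
      P.smul_mem _ (Submodule.subset_span ⟨l, rfl⟩), fun j => ?_⟩
    have := hd j
    rw [Finset.sum_apply]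
    exact this
  refine ⟨c', fun k => ?_⟩
  obtain ⟨p, hp, hpc⟩ := hc' k
  obtain ⟨d, hd⟩ := (Submodule.mem_span_range_iff_exists_fun _).1 hp
  have hd' : ∀ j, p j = ∑ l, d l * resO hVW (r l j) := fun j => by
    have := congrFun hd j
    simpa using this.symm
  have h1 := sum_rel_eq_zero h hVW hr p d hd'
  have h2 : ∑ j, (c' j - c k j) • res 𝔉 hVW (s j) = ∑ j, (c' j - c k j - p j) • res 𝔉 hVW (s j) := by
    simp only [sub_smul]
    rw [Finset.sum_sub_distrib (f := fun j => c' j • res 𝔉 hVW (s j) - c k j • res 𝔉 hVW (s j)), h1, sub_zero]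
  rw [h2, map_sum]
  refine Finset.sum_eq_zero fun j _ => ?_
  rw [ul_smul, (hV.mem_pow k _).1 (hpc j), zero_smul]

variable (hq : ∀ k, Coh.IsQCoh (show (𝔛.X k).Modules from lv h k 𝔉))

include hV hq in
theorem exists_approx (hs : Gen 𝔉 W s) (k : ℕ) (y : Sec (lv h k 𝔉) (𝔛.lvU h k V)) :
    ∃ c : Fin n → O (𝔛.Osh h) V, ul h k V (∑ j, c j • res 𝔉 hVW (s j)) = y := by
  obtain ⟨c, hc⟩ := AffPres.exists_eq_sum (lv h k 𝔉) (hq k) (hV.aff_lv k)
    (lvU_mono h k hVW) (gen_pull (lvAdj h k) hs) y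
  choose c' hc' using fun j => hV.surj k (c j)
  refine ⟨c', ?_⟩
  rw [hc, map_sum]
  refine Finset.sum_congr rfl fun j _ => ?_
  rw [ul_smul, ul_res, hc']
  rfl

include hV hq hB in
/-- The `s j` generate `𝔉(V)` for every affine `V ≤ W`. -/
theorem exists_eq_sum (hs : Gen 𝔉 W s) (hr : Rel 𝔉 W s r) (t : Sec 𝔉 V) :
    ∃ c : Fin n → O (𝔛.Osh h) V, t = ∑ j, c j • res 𝔉 hVW (s j) := by
  choose c hc using fun k => exists_approx h hV hVW hq hs k (ul h k V t)
  obtain ⟨c', hc'⟩ := exists_limit_sum h hV hVW hs hr c fun k => by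
    simp only [sub_smul]
    rw [Finset.sum_sub_distrib, map_sub, hc k, sub_eq_zero, ← sub_eq_zero, ← map_sub]
    refine ul_succ_eq_zero h k V _ ?_
    rw [map_sub, hc (k + 1), sub_self]
  refine ⟨c', sub_eq_zero.1 (eq_zero_of_ul h hB hs hr hVW _ fun k => ?_)⟩
  have h1 := hc' k
  simp only [sub_smul] at h1
  rw [Finset.sum_sub_distrib, map_sub, hc k] at h1
  rw [map_sub, ← neg_eq_zero, neg_sub]
  exact h1

include hV hVW hq hB in
/-- Completeness of `𝔉(V)` for the projections to the levels. -/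
theorem exists_limit (hs : Gen 𝔉 W s) (hr : Rel 𝔉 W s r) (t : ℕ → Sec 𝔉 V)
    (ht : ∀ k, ul h k V (t (k + 1) - t k) = 0) : ∃ t' : Sec 𝔉 V, ∀ k, ul h k V (t' - t k) = 0 := by
  choose c hc using fun k => exists_eq_sum h hV hVW hB hq hs hr (t k)
  obtain ⟨c', hc'⟩ := exists_limit_sum h hV hVW hs hr c fun k => by
    simp only [sub_smul]
    rw [Finset.sum_sub_distrib, ← hc, ← hc]
    exact ht k
  refine ⟨∑ j, c' j • res 𝔉 hVW (s j), fun k => ?_⟩
  have h1 := hc' k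
  simp only [sub_smul] at h1
  rw [Finset.sum_sub_distrib, ← hc k] at h1
  exact h1

include hV hVW in
/-- The `r k` generate the relations over every affine open. -/
theorem exists_rel (hs : Gen 𝔉 W s) (hr : Rel 𝔉 W s r) (c : Fin n → O (𝔛.Osh h) V)
    (hc : ∑ j, c j • res 𝔉 hVW (s j) = 0) :
    ∃ d : Fin m → O (𝔛.Osh h) V, ∀ j, c j = ∑ l, d l * resO hVW (r l j) :=
  exists_rel_of_forall h hV hVW hs hr c fun k => by rw [hc, map_zero]

include hV hVW hq hB in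
/-- The kernel of `𝔉(V) → (u_k^* 𝔉)(V)` is `𝓘^{k+1} 𝔉(V)`. -/
theorem mem_smul_top_of_ul_eq_zero (hs : Gen 𝔉 W s) (hr : Rel 𝔉 W s r) (k : ℕ) (t : Sec 𝔉 V)
    (ht : ul h k V t = 0) : t ∈ (II h V ^ (k + 1) • ⊤ : Submodule (O (𝔛.Osh h) V) (Sec 𝔉 V)) := by
  obtain ⟨c, rfl⟩ := exists_eq_sum h hV hVW hB hq hs hr t
  obtain ⟨d, hd⟩ := exists_rel_mod h hV hVW hs hr k c ht
  have h1 := sum_rel_eq_zero h hVW hr _ d fun j => rfl
  have h2 : ∑ j, c j • res 𝔉 hVW (s j) = ∑ j, (c j - ∑ l, d l * resO hVW (r l j)) • res 𝔉 hVW (s j) := by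
    simp only [sub_smul]
    rw [Finset.sum_sub_distrib, h1, sub_zero]
  rw [h2]
  exact Submodule.sum_mem _ fun j _ => Submodule.smul_mem_smul (hd j) trivial

end Local

section Sys

variable (𝔉 : FSch.ModF 𝔛 h) (hB : Basis (T := (𝔛.X 0).carrier) {V | GV h V})

theorem isQCoh_lv (h𝔉 : FSch.IsCohF 𝔛 h 𝔉) (k : ℕ) : Coh.IsQCoh (show (𝔛.X k).Modules from lv h k 𝔉) := by
  have h1 : SheafOfModules.IsFinitePresentation (R := ringSheaf (𝔛.X k).sheaf) (lv h k 𝔉) :=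
    isFinitePresentation_pull (lvAdj h k) h𝔉
  have h2 : SheafOfModules.IsQuasicoherent (R := ringSheaf (𝔛.X k).sheaf) (lv h k 𝔉) := inferInstance
  exact h2

theorem isCoh_lv (h𝔉 : FSch.IsCohF 𝔛 h 𝔉) (k : ℕ) : Coh.IsCoh (show (𝔛.X k).Modules from lv h k 𝔉) := by
  have h1 : SheafOfModules.IsFinitePresentation (R := ringSheaf (𝔛.X k).sheaf) (lv h k 𝔉) :=
    isFinitePresentation_pull (lvAdj h k) h𝔉
  have h2 : SheafOfModules.IsFiniteType (R := ringSheaf (𝔛.X k).sheaf) (lv h k 𝔉) := inferInstance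
  exact ⟨isQCoh_lv h 𝔉 h𝔉 k, h2⟩

theorem isCoh_sysOf (h𝔉 : FSch.IsCohF 𝔛 h 𝔉) : (sysOf h 𝔉).IsCoh := isCoh_lv h 𝔉 h𝔉

include hB in
theorem bijective_toReal (hq : ∀ k, Coh.IsQCoh (show (𝔛.X k).Modules from lv h k 𝔉))
    {W V : (𝔛.X 0).Opens} (hV : GV h V) (hVW : V ≤ W)
    {n m : ℕ} {s : Fin n → Sec 𝔉 W} {r : Fin m → Fin n → O (𝔛.Osh h) W} (hs : Gen 𝔉 W s) (hr : Rel 𝔉 W s r) :
    Function.Bijective (app (toReal h 𝔉) V) := by
  constructor
  · rw [injective_iff_map_eq_zero]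
    intro t ht
    refine eq_zero_of_ul h hB hs hr hVW t fun k => ?_
    rw [← app_toReal, ht]
    exact (app (FSch.realProj 𝔛 h (sysOf h 𝔉).F (sysOf h 𝔉).toPush k) V).map_zero
  · intro z
    let z' : ∀ k, Sec (lv h k 𝔉) (𝔛.lvU h k V) := fun k =>
      app (FSch.realProj 𝔛 h (sysOf h 𝔉).F (sysOf h 𝔉).toPush k) V z
    choose c hc using fun k => exists_approx h hV hVW hq hs k (z' k)
    have hz : ∀ k, ul h k V (∑ j, c (k + 1) j • res 𝔉 hVW (s j)) = z' k := by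
      intro k
      have e := unit_toPush h 𝔉 k
      have e1 := congrArg (fun g : 𝔉 ⟶ (FSch.levelMor 𝔛 h k).push.obj ((FSch.levelMor 𝔛 h k).pull.obj 𝔉) =>
        app g V (∑ j, c (k + 1) j • res 𝔉 hVW (s j))) e
      refine (show ul h k V (∑ j, c (k + 1) j • res 𝔉 hVW (s j)) = _ from e1.symm).trans ?_
      have e2 := FSch.realProj_map 𝔛 h (sysOf h 𝔉).F (sysOf h 𝔉).toPush k
      have e3 := congrArg (fun g : (sysOf h 𝔉).realMod h ⟶
        (FSch.levelMor 𝔛 h k).push.obj ((FSch.levelMor 𝔛 h k).pull.obj 𝔉) => app g V z) e2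
      refine Eq.trans ?_ e3
      exact congrArg (app ((FSch.levelMor 𝔛 h (k + 1)).push.map ((sysOf h 𝔉).toPush k) ≫
        (FSch.pushCompare 𝔛 h k).app ((FSch.levelMor 𝔛 h k).pull.obj 𝔉)) V) (hc (k + 1))
    obtain ⟨t, ht⟩ := exists_limit h hV hVW hB hq hs hr (fun k => ∑ j, c k j • res 𝔉 hVW (s j)) fun k => by
      rw [map_sub, hz, hc, sub_self]
    refine ⟨t, RLim.lim_ext _ _ _ fun k => ?_⟩
    refine (app_toReal h 𝔉 k V t).trans ?_
    have := ht k
    rw [map_sub, sub_eq_zero, hc k] at this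
    exact this

include hB in
/-- A coherent module is the limit of its inverse images to the levels. -/
theorem isIso_toReal (h𝔉 : FSch.IsCohF 𝔛 h 𝔉) : IsIso (toReal h 𝔉) := by
  refine RBasis.isIso_of_local _ fun x V hx => ?_
  obtain ⟨W, hxW, n, m, s, r, hs, hr⟩ :=
    (fpAt_iff 𝔉 x).1 ((Groth.Agent.Gaga.H976.TM3.isFinitePresentation_iff 𝔉).1 h𝔉 x)
  obtain ⟨V', hV'a, hxV', hV'⟩ := hB x (V ⊓ W) ⟨hx, hxW⟩
  exact ⟨V', hxV', hV'.trans inf_le_left, bijective_toReal h 𝔉 hB (isQCoh_lv h 𝔉 h𝔉) hV'a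
    (hV'.trans inf_le_right) hs hr⟩

end Sys

end K390.VGood

end
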