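import Groth.Agent.FCompl.K390.VSpf
import Groth.Agent.FCompl.K390.VExact

/-!
# The module of a system on `Spf A` is of the form `M^Δ`

`A` topologically of finite type over a base ring of class (N) or (V), `𝔐` a system of quasi-coherent modules on the
levels of `Spf A` with `Γ(F 0)` finite: `𝔐.realMod ≅ M^Δ` with `M` finite.
-/

set_option autoImplicit false
set_option linter.style.haveILetI false

universe u

open CategoryTheory CategoryTheory.Limits AlgebraicGeometry TopologicalSpace Opposite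
open K29.RSec K29.RStalk K29.RPull K28 K28.RealSec K28.BasisIso K28.ToSch
open Groth.Agent.Fcompl.H552.IdealSpec K390.CLimAlg K390.CSec K390.TildeSec K390.VBase K390.VGood K390.VSpf

noncomputable section

namespace K390.VIso

variable {R : Type u} [CommRing R] {I : Ideal R} {A : Type u} [CommRing A] [Algebra R A]
  (h : (FSch.completionAlong (Spec (CommRingCat.of A)) (FSch.idealSpec A (I.map (algebraMap R A)))).IsFormal)
  (P : FSch.ModF (FSch.completionAlong (Spec (CommRingCat.of A)) (FSch.idealSpec A (I.map (algebraMap R A)))) h)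

/-- Congruence. -/
theorem sbc_congr {B C : Type u} [CommRing B] [CommRing C] {ρ ρ' : B →+* C} {N Q : Type u} [AddCommGroup N]
    [Module B N] [AddCommGroup Q] [Module C Q] {g g' : N →+ Q} (hg : SBC ρ g) (e1 : ∀ a, ρ a = ρ' a)
    (e2 : ∀ m, g m = g' m) : SBC ρ' g' := by
  obtain rfl : ρ = ρ' := RingHom.ext e1
  obtain rfl : g = g' := AddMonoidHom.ext e2
  exact hg

/-- The direct image on `Spec A`. -/
def G : (Spec (CommRingCat.of A)).Modules :=
  (K920.KapSch.kap (Spec (CommRingCat.of A)) (FSch.idealSpec A (I.map (algebraMap R A))) h).push.obj P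

/-- The module of global sections. -/
def Mg : ModuleCat.{u} A := (modulesSpecToSheaf (R := CommRingCat.of A).obj (G h P)).presheaf.obj (.op ⊤)

/-- The canonical morphism. -/
def g : tilde (R := CommRingCat.of A) (Mg h P) ⟶
    (K920.KapSch.kap (Spec (CommRingCat.of A)) (FSch.idealSpec A (I.map (algebraMap R A))) h).push.obj P :=
  Scheme.Modules.fromTildeΓ (R := CommRingCat.of A) (G h P)

/-- The canonical morphism on sections. -/
abbrev gS (V : (Spec (CommRingCat.of A)).Opens) :
    Sec (R := (Spec (CommRingCat.of A)).sheaf) (tilde (R := CommRingCat.of A) (Mg h P)) V →+ Sec P (hat _ V) :=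
  gs (φ := K920.KapSch.phi (Spec (CommRingCat.of A)) (FSch.idealSpec A (I.map (algebraMap R A))) h) (g h P) V

/-- Sections from elements of the module. -/
def nu (V : (Spec (CommRingCat.of A)).Opens) : Mg h P →+ Sec P (hat _ V) := (gS h P V).comp (tau (Mg h P) V)

/-- The elements of `Mg` are the global sections. -/
def ofMg : Mg h P → Sec P (hat _ ⊤) := fun m => m

theorem nu_top (m : Mg h P) : nu h P ⊤ m = ofMg h P m := by
  have e := Scheme.Modules.toOpen_fromTildeΓ_app (R := CommRingCat.of A) (G h P) ⊤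
  have e1 := congr($e m)
  refine Eq.trans (show nu h P ⊤ m = _ from e1) ?_
  have e2 : (homOfLE (le_top : (⊤ : (Spec (CommRingCat.of A)).Opens) ≤ ⊤)).op = 𝟙 (op ⊤) := rfl
  rw [e2, CategoryTheory.Functor.map_id]
  rfl

theorem nu_smul (V : (Spec (CommRingCat.of A)).Opens) (a : A) (m : Mg h P) :
    nu h P V (a • m) = ra h V a • nu h P V m := by
  refine (congrArg (gS h P V) (tau_smul (Mg h P) V a m)).trans ?_
  exact gs_smul (φ := K920.KapSch.phi (Spec (CommRingCat.of A)) (FSch.idealSpec A (I.map (algebraMap R A))) h)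
    (g h P) V _ _

theorem nu_res {V W : (Spec (CommRingCat.of A)).Opens} (hW : W ≤ V) (m : Mg h P) :
    res P (hat_mono hW) (nu h P V m) = nu h P W m := by
  refine (gs_res (φ := K920.KapSch.phi (Spec (CommRingCat.of A)) (FSch.idealSpec A (I.map (algebraMap R A))) h)
    (g h P) hW (tau (Mg h P) V m)).symm.trans ?_
  exact congrArg (gS h P W) (tau_res (Mg h P) hW m)

theorem nu_top_bijective : Function.Bijective (nu h P ⊤) := by
  have e : (nu h P ⊤ : Mg h P → _) = ofMg h P := funext (nu_top h P)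
  rw [e]
  exact Function.bijective_id

variable (hR : AdicRing.IsBase R I) (hA : AdicRing.TopFiniteType R I A)

include hR hA

theorem sbc_nu_top : SBC (ra h ⊤) (nu h P ⊤) :=
  SBC.of_surjective (nu_smul h P ⊤) (ra_top_bijective h hR hA).2 (nu_top_bijective h P).2 fun m hm => by
    have : m = 0 := (nu_top_bijective h P).1 (hm.trans (map_zero (nu h P ⊤)).symm)
    rw [this]
    exact Submodule.zero_mem _

theorem finite_Mg (hfin : Module.Finite (O ((FSch.completionAlong (Spec (CommRingCat.of A))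
    (FSch.idealSpec A (I.map (algebraMap R A)))).Osh h) (hat _ ⊤)) (Sec P (hat _ ⊤))) : Module.Finite A (Mg h P) := by
  obtain ⟨s, hs⟩ := hfin.1
  choose f hf using (nu_top_bijective h P).2
  classical
  refine ⟨⟨s.image f, ?_⟩⟩
  rw [eq_top_iff]
  intro m _
  have hm : nu h P ⊤ m ∈ Submodule.span (O ((FSch.completionAlong (Spec (CommRingCat.of A))
    (FSch.idealSpec A (I.map (algebraMap R A)))).Osh h) (hat _ ⊤)) (s : Set (Sec P (hat _ ⊤))) := by
    rw [hs]; trivial
  have key : ∀ y ∈ Submodule.span (O ((FSch.completionAlong (Spec (CommRingCat.of A))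
    (FSch.idealSpec A (I.map (algebraMap R A)))).Osh h) (hat _ ⊤)) (s : Set (Sec P (hat _ ⊤))),
      ∀ m, nu h P ⊤ m = y → m ∈ Submodule.span A (↑(s.image f) : Set (Mg h P)) := by
    intro y hy
    induction hy using Submodule.span_induction with
    | mem y hy =>
      intro m hm
      have : m = f y := (nu_top_bijective h P).1 (hm.trans (hf y).symm)
      rw [this]
      exact Submodule.subset_span (Finset.mem_coe.2 (Finset.mem_image_of_mem f hy))
    | zero =>
      intro m hm
      have : m = 0 := (nu_top_bijective h P).1 (hm.trans (map_zero (nu h P ⊤)).symm)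
      rw [this]
      exact Submodule.zero_mem _
    | add y y' _ _ hy hy' =>
      intro m hm
      have : m = f y + f y' := (nu_top_bijective h P).1 (hm.trans (by rw [map_add, hf, hf]))
      rw [this]
      exact Submodule.add_mem _ (hy _ (hf y)) (hy' _ (hf y'))
    | smul a y _ hy =>
      intro m hm
      obtain ⟨a, rfl⟩ := (ra_top_bijective h hR hA).2 a
      have : m = a • f y := (nu_top_bijective h P).1 (hm.trans (by rw [nu_smul, hf]))
      rw [this]
      exact Submodule.smul_mem _ _ (hy _ (hf y))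
  exact key _ hm m rfl

section Sys

variable {𝔐 : FSch.ModSys (FSch.completionAlong (Spec (CommRingCat.of A)) (FSch.idealSpec A (I.map (algebraMap R A))))}
  (hq : ∀ n, Coh.IsQCoh (𝔐.F n))
  (h0 : Module.Finite Γ((FSch.completionAlong (Spec (CommRingCat.of A)) (FSch.idealSpec A (I.map (algebraMap R A)))).X 0,
      (FSch.completionAlong (Spec (CommRingCat.of A)) (FSch.idealSpec A (I.map (algebraMap R A)))).lvU h 0 (hat _ ⊤))
    Γ(𝔐.F 0, (FSch.completionAlong (Spec (CommRingCat.of A))
      (FSch.idealSpec A (I.map (algebraMap R A)))).lvU h 0 (hat _ ⊤)))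

include hq h0

omit hA hq h0 in
theorem fg_top : (K29.Fml.II h (hat (FSch.idealSpec A (I.map (algebraMap R A))) ⊤)).FG := by
  rw [II_eq h hR (isAffineOpen_top _)]
  exact (fg_JV hR (isAffineOpen_top _)).map _

theorem sbc_ps_top (n : ℕ) :
    SBC (pk (FSch.completionAlong (Spec (CommRingCat.of A)) (FSch.idealSpec A (I.map (algebraMap R A)))) h n (hat _ ⊤))
      (ps (FSch.completionAlong (Spec (CommRingCat.of A)) (FSch.idealSpec A (I.map (algebraMap R A)))) h 𝔐.F 𝔐.toPush n
        (hat _ ⊤)) := by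
  have h1 := (VLim.main h (good h hR hA (isAffineOpen_top _)) hq (fg_top h hR) h0).2.1 n
  refine SBC.of_surjective (ps_smul _ h 𝔐.F 𝔐.toPush n (hat _ ⊤)) ((good h hR hA (isAffineOpen_top _)).surj n)
    h1.1 fun m hm => ?_
  have h2 : RingHom.ker (pk (FSch.completionAlong (Spec (CommRingCat.of A))
      (FSch.idealSpec A (I.map (algebraMap R A)))) h n (hat _ ⊤)) = K29.Fml.II h (hat _ ⊤) ^ (n + 1) := by
    ext x
    exact ((good h hR hA (isAffineOpen_top _)).mem_pow n x).symm
  rw [h2]
  exact (SetLike.ext_iff.1 h1.2 m).1 hm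

theorem sbc_lv_nu (n : ℕ) {V : (Spec (CommRingCat.of A)).Opens} (hV : IsAffineOpen V) :
    SBC ((pk (FSch.completionAlong (Spec (CommRingCat.of A)) (FSch.idealSpec A (I.map (algebraMap R A)))) h n
        (hat _ V)).comp (ra h V))
      ((ps (FSch.completionAlong (Spec (CommRingCat.of A)) (FSch.idealSpec A (I.map (algebraMap R A)))) h 𝔐.F 𝔐.toPush n
        (hat _ V)).comp (nu h (𝔐.realMod h) V)) := by
  have h1 := ((sbc_nu_top h (𝔐.realMod h) hR hA).comp (sbc_ps_top h hR hA hq h0 n)).comp
    (LevelBC.sbc_res (hq n) (lvU_mono _ h n (hat_mono (le_top : V ≤ ⊤))) (isAffineOpen_hat h (isAffineOpen_top _) n)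
      (isAffineOpen_hat h hV n))
  refine sbc_congr h1 (fun a => ?_) fun m => ?_
  · refine (pk_res _ h n (hat_mono (le_top : V ≤ ⊤)) (ra h ⊤ a)).symm.trans ?_
    exact congrArg (pk _ h n (hat _ V)) (ra_res h (le_top : V ≤ ⊤) a)
  · refine (ps_res _ h 𝔐.F 𝔐.toPush n (hat_mono (le_top : V ≤ ⊤)) (nu h (𝔐.realMod h) ⊤ m)).symm.trans ?_
    exact congrArg (ps _ h 𝔐.F 𝔐.toPush n (hat _ V)) (nu_res h (𝔐.realMod h) (le_top : V ≤ ⊤) m)

theorem sbc_lv_gS (n : ℕ) {V : (Spec (CommRingCat.of A)).Opens} (hV : IsAffineOpen V) :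
    SBC (A := O (Spec (CommRingCat.of A)).sheaf V)
      (M := Sec (R := (Spec (CommRingCat.of A)).sheaf) (tilde (R := CommRingCat.of A) (Mg h (𝔐.realMod h))) V)
      ((pk (FSch.completionAlong (Spec (CommRingCat.of A)) (FSch.idealSpec A (I.map (algebraMap R A)))) h n
        (hat _ V)).comp (cr _ h V))
      ((ps (FSch.completionAlong (Spec (CommRingCat.of A)) (FSch.idealSpec A (I.map (algebraMap R A)))) h 𝔐.F 𝔐.toPush n
        (hat _ V)).comp (gS h (𝔐.realMod h) V)) := by
  refine (sbc_tau (Mg h (𝔐.realMod h)) hV).of_comp (fun b q => ?_) (sbc_lv_nu h hR hA hq h0 n hV)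
  refine (congrArg (ps _ h 𝔐.F 𝔐.toPush n (hat _ V)) (gs_smul (φ := K920.KapSch.phi (Spec (CommRingCat.of A))
    (FSch.idealSpec A (I.map (algebraMap R A))) h) (g h (𝔐.realMod h)) V b q)).trans ?_
  exact ps_smul _ h 𝔐.F 𝔐.toPush n (hat _ V) _ _

theorem finite_Mg' : Module.Finite A (Mg h (𝔐.realMod h)) :=
  finite_Mg h (𝔐.realMod h) hR hA (VLim.main h (good h hR hA (isAffineOpen_top _)) hq (fg_top h hR) h0).2.2

theorem sbc_gS {V : (Spec (CommRingCat.of A)).Opens} (hV : IsAffineOpen V) :
    SBC (A := O (Spec (CommRingCat.of A)).sheaf V)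
      (M := Sec (R := (Spec (CommRingCat.of A)).sheaf) (tilde (R := CommRingCat.of A) (Mg h (𝔐.realMod h))) V)
      (cr _ h V) (gS h (𝔐.realMod h) V) := by
  have hf := finite_Mg' h hR hA hq h0
  have h1 : Module.Finite (O (Spec (CommRingCat.of A)).sheaf V)
    (Sec (R := (Spec (CommRingCat.of A)).sheaf) (tilde (R := CommRingCat.of A) (Mg h (𝔐.realMod h))) V) :=
      (sbc_tau (Mg h (𝔐.realMod h)) hV).finite
  exact (limR h hV).sbc (fun n => sbc_lv_gS h hR hA hq h0 n hV)
    (gs_smul (φ := K920.KapSch.phi (Spec (CommRingCat.of A))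
      (FSch.idealSpec A (I.map (algebraMap R A))) h) (g h (𝔐.realMod h)) V)
    (ofTensorProduct_bijective (C := O (Spec (CommRingCat.of A)).sheaf V) (σ := (secMap A V).hom) hR hA
      (finiteType_secMap hV) (ideal_eq _ hV) _)

omit [Algebra R A] hR hA hq h0 in
theorem cofinal {X : Scheme.{u}} (𝓘 : X.IdealSheafData) :
    Cofinal (K920.KapSch.bs X 𝓘) {V : X.Opens | IsAffineOpen V} := by
  have h1 : IsClosedImmersion (FSch.completionToX X 𝓘 0) :=
    inferInstanceAs (IsClosedImmersion (𝓘 ^ (0 + 1)).subschemeι)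
  have hemb : Topology.IsInducing (K920.KapSch.bs X 𝓘) :=
    (FSch.completionToX X 𝓘 0).isClosedEmbedding.isInducing
  have hB : Basis (T := X.carrier) {V : X.Opens | IsAffineOpen V} := by
    intro x V hx
    obtain ⟨_, ⟨U, hU, rfl⟩, hxU, hUV⟩ := X.isBasis_affineOpens.exists_subset_of_mem_open hx V.2
    exact ⟨U, hU, hxU, hUV⟩
  exact cofinal_of_embedding _ hemb hB

/-- The module of a system is of the form `M^Δ`. -/
theorem exists_iso : ∃ M : ModuleCat.{u} A, Module.Finite A M ∧ Nonempty (𝔐.realMod h ≅ VExact.dObj h M) := by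
  have hf := finite_Mg' h hR hA hq h0
  refine ⟨Mg h (𝔐.realMod h), hf, ?_⟩
  have i1 : IsIso (lft (φ := K920.KapSch.phi (Spec (CommRingCat.of A)) (FSch.idealSpec A (I.map (algebraMap R A))) h)
      (K920.KapSch.kap (Spec (CommRingCat.of A)) (FSch.idealSpec A (I.map (algebraMap R A))) h).adj
        (g h (𝔐.realMod h))) :=
    isIso_lft (φ := K920.KapSch.phi (Spec (CommRingCat.of A)) (FSch.idealSpec A (I.map (algebraMap R A))) h)
      (K920.KapSch.kap (Spec (CommRingCat.of A)) (FSch.idealSpec A (I.map (algebraMap R A))) h).adj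
      (g h (𝔐.realMod h)) (cofinal (FSch.idealSpec A (I.map (algebraMap R A))))
      fun V hV => sbc_gS h hR hA hq h0 hV
  have i2 : IsIso (lft (φ := K920.KapSch.phi (Spec (CommRingCat.of A)) (FSch.idealSpec A (I.map (algebraMap R A))) h)
      (K920.KapSch.kap (Spec (CommRingCat.of A)) (FSch.idealSpec A (I.map (algebraMap R A))) h).adj
        (eta (FSch.idealSpec A (I.map (algebraMap R A))) h (tilde (R := CommRingCat.of A) (Mg h (𝔐.realMod h))))) :=
    isIso_lft (φ := K920.KapSch.phi (Spec (CommRingCat.of A)) (FSch.idealSpec A (I.map (algebraMap R A))) h)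
      (K920.KapSch.kap (Spec (CommRingCat.of A)) (FSch.idealSpec A (I.map (algebraMap R A))) h).adj
      (eta (FSch.idealSpec A (I.map (algebraMap R A))) h (tilde (R := CommRingCat.of A) (Mg h (𝔐.realMod h))))
      (cofinal (FSch.idealSpec A (I.map (algebraMap R A))))
      fun V hV => by
        have h1 : Module.Finite (O (Spec (CommRingCat.of A)).sheaf V)
          (Sec (R := (Spec (CommRingCat.of A)).sheaf) (tilde (R := CommRingCat.of A) (Mg h (𝔐.realMod h))) V) :=
            (sbc_tau (Mg h (𝔐.realMod h)) hV).finite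
        exact sbc_cs h hV (isQCoh_tilde (Mg h (𝔐.realMod h)))
          (ofTensorProduct_bijective (C := O (Spec (CommRingCat.of A)).sheaf V) (σ := (secMap A V).hom) hR hA
            (finiteType_secMap hV) (ideal_eq _ hV) _)
  exact ⟨(@asIso _ _ _ _ _ i1).symm ≪≫ @asIso _ _ _ _ _ i2⟩

end Sys

end K390.VIso

end
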