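import Groth.Agent.FCompl.K390.VGood
import Groth.Agent.FCompl.K28.RealAff

/-!
# Sections of the module of a system over good opens

`U` a good open (`VGood.GV`), `𝔐` a system of quasi-coherent modules with `Γ(F 0, U)` finite:
* `main`: `Γ(U, realMod)` is `II(U)`-adically complete, finite, the projection to the level `k` is surjective with
  kernel `II(U)^(k+1) • ⊤`.
-/

set_option autoImplicit false
set_option linter.style.haveILetI false

universe u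

open CategoryTheory CategoryTheory.Limits AlgebraicGeometry TopologicalSpace Opposite
open K29.RSec K29.RStalk K919.AffBasic K28 K28.RealSec K28.BasisIso K390.VGood K29.Fml
open Groth.Agent.VarietyB

noncomputable section

namespace K390.VLim

section Main0

variable {𝔛 : FSch.Sys.{u}} (h : 𝔛.IsFormal) {U : (𝔛.X 0).Opens} (hU : GV h U)

include hU in
theorem surjP (k : ℕ) : Function.Surjective (pk 𝔛 h k U) := hU.surj k

include hU in
theorem tk_surjective (k : ℕ) : Function.Surjective (tk 𝔛 h k U) := K919.AffBasic.tr_surjective 𝔛 h hU.aff k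

end Main0

section Main

variable {𝔛 : FSch.Sys.{u}} (h : 𝔛.IsFormal)

/-- The `A`-module `Γ(F k, lvU k U)` as sections of the direct image. -/
abbrev MS (𝔐 : FSch.ModSys 𝔛) (k : ℕ) (U : (𝔛.X 0).Opens) : Type u :=
  Sec ((FSch.levelMor 𝔛 h k).push.obj (𝔐.F k)) U

/-- The transition maps of the direct images. -/
def fS (𝔐 : FSch.ModSys 𝔛) (k : ℕ) (U : (𝔛.X 0).Opens) : MS h 𝔐 (k + 1) U →ₗ[O (𝔛.Osh h) U] MS h 𝔐 k U :=
  app ((FSch.levelMor 𝔛 h (k + 1)).push.map (𝔐.toPush k) ≫ (FSch.pushCompare 𝔛 h k).app (𝔐.F k)) U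

theorem fS_apply (𝔐 : FSch.ModSys 𝔛) (k : ℕ) (U : (𝔛.X 0).Opens) (x : MS h 𝔐 (k + 1) U) :
    fS h 𝔐 k U x = toPushL 𝔛 h (tS 𝔛 h 𝔐.F 𝔐.toPush k U (ofPushL 𝔛 h x)) := rfl

variable {U : (𝔛.X 0).Opens} (hU : GV h U) {𝔐 : FSch.ModSys 𝔛} (h𝔐 : ∀ n, Coh.IsQCoh (𝔐.F n))

include hU h𝔐

theorem fS_surjective (k : ℕ) : Function.Surjective (fS h 𝔐 k U) :=
  (RealAff.sbc_tS h 𝔐 h𝔐 hU.aff k).surjective_of_surjective (tk_surjective h hU k)

omit h𝔐 in
/-- Ideals of a level times the sections of a level. -/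
theorem mem_smul {k : ℕ} {M : (𝔛.X k).Modules} (I : Ideal (O (𝔛.Osh h) U)) (J : Ideal Γ(𝔛.X k, 𝔛.lvU h k U))
    (hIJ : J ≤ I.map (pk 𝔛 h k U)) (x : Γ(M, 𝔛.lvU h k U))
    (hx : x ∈ J • (⊤ : Submodule Γ(𝔛.X k, 𝔛.lvU h k U) Γ(M, 𝔛.lvU h k U))) :
    toPushL 𝔛 h x ∈ I • (⊤ : Submodule (O (𝔛.Osh h) U) (Sec ((FSch.levelMor 𝔛 h k).push.obj M) U)) := by
  have hs := surjP h hU k
  induction hx using Submodule.smul_induction_on' with
  | smul a ha m _ =>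
    have h1 : a ∈ I.map (pk 𝔛 h k U) := hIJ ha
    obtain ⟨b, hb, rfl⟩ := (Ideal.mem_map_iff_of_surjective _ hs).1 h1
    rw [toPushL_smul]
    exact Submodule.smul_mem_smul hb trivial
  | add x _ y _ hx hy =>
    rw [map_add]
    exact Submodule.add_mem _ hx hy

omit h𝔐 in
/-- Powers of the ideal of definition kill the levels. -/
theorem smul_eq_zero {k : ℕ} {M : (𝔛.X k).Modules} (a : O (𝔛.Osh h) U)
    (ha : a ∈ II h U ^ (k + 1))
    (x : Sec ((FSch.levelMor 𝔛 h k).push.obj M) U) : a • x = 0 := by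
  have ha : pk 𝔛 h k U a = 0 := (hU.mem_pow k a).1 ha
  rw [← toPushL_ofPushL 𝔛 h x, ← toPushL_smul, ha, zero_smul, map_zero]

theorem ker_fS (k : ℕ) : LinearMap.ker (fS h 𝔐 k U) =
    II h U ^ (k + 1) • (⊤ : Submodule (O (𝔛.Osh h) U) (MS h 𝔐 (k + 1) U)) := by
  apply le_antisymm
  · intro x hx
    have h1 := (RealAff.sbc_tS h 𝔐 h𝔐 hU.aff k).mem_smul_top (tk_surjective h hU k)
      (ofPushL 𝔛 h x) hx
    refine mem_smul h hU (II h U ^ (k + 1)) (RingHom.ker (tk 𝔛 h k U)) ?_ _ h1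
    intro a ha
    obtain ⟨b, rfl⟩ := surjP h hU (k + 1) a
    refine Ideal.mem_map_of_mem _ ?_
    refine (hU.mem_pow k b).2 ?_
    refine (tk_pk 𝔛 h k U b).symm.trans ?_
    exact ha
  · rw [Submodule.smul_le]
    intro a ha x _
    rw [LinearMap.mem_ker, map_smul]
    exact smul_eq_zero h hU a ha _

theorem main (hfg : (II h U).FG) (h0 : Module.Finite Γ(𝔛.X 0, 𝔛.lvU h 0 U) Γ(𝔐.F 0, 𝔛.lvU h 0 U)) : IsAdicComplete (II h U) (Sec (𝔐.realMod h) U) ∧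
    (∀ k, Function.Surjective (app (FSch.realProj 𝔛 h 𝔐.F 𝔐.toPush k) U) ∧
      LinearMap.ker (app (FSch.realProj 𝔛 h 𝔐.F 𝔐.toPush k) U) =
        II h U ^ (k + 1) • (⊤ : Submodule (O (𝔛.Osh h) U) (Sec (𝔐.realMod h) U))) ∧
      Module.Finite (O (𝔛.Osh h) U) (Sec (𝔐.realMod h) U) := by
  obtain ⟨h1, h2, h3⟩ := Groth.Agent.S2291.result (O (𝔛.Osh h) U)
    (II h U) hfg
    (fun k => MS h 𝔐 k U) (fun k => fS h 𝔐 k U) (fS_surjective h hU h𝔐) (ker_fS h hU h𝔐)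
    (Sec (𝔐.realMod h) U) (fun k => app (FSch.realProj 𝔛 h 𝔐.F 𝔐.toPush k) U)
    (fun k => LinearMap.ext fun x => tS_ps 𝔛 h 𝔐.F 𝔐.toPush k U x)
    (fun x hx => sec_ext 𝔛 h 𝔐.F 𝔐.toPush x 0 fun k => (hx k).trans (map_zero _).symm)
    (fun y hy => sec_lift 𝔛 h 𝔐.F 𝔐.toPush y hy)
  refine ⟨h1, h2, h3 (hU.compl _) ?_⟩
  have hf := h0
  obtain ⟨s, hs⟩ := hf.1
  refine ⟨⟨s, ?_⟩⟩
  rw [eq_top_iff]
  intro x _
  have hx : ofPushL 𝔛 h x ∈ Submodule.span Γ(𝔛.X 0, 𝔛.lvU h 0 U) (s : Set Γ(𝔐.F 0, 𝔛.lvU h 0 U)) := by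
    rw [hs]; trivial
  have key : ∀ y ∈ Submodule.span Γ(𝔛.X 0, 𝔛.lvU h 0 U) (s : Set Γ(𝔐.F 0, 𝔛.lvU h 0 U)),
      toPushL 𝔛 h y ∈ Submodule.span (O (𝔛.Osh h) U) (show Set (MS h 𝔐 0 U) from (s : Set Γ(𝔐.F 0, 𝔛.lvU h 0 U))) := by
    intro y hy
    induction hy using Submodule.span_induction with
    | mem y hy => exact Submodule.subset_span hy
    | zero => rw [map_zero]; exact Submodule.zero_mem _
    | add y y' _ _ h h' => rw [map_add]; exact Submodule.add_mem _ h h'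
    | smul a y _ hy =>
      obtain ⟨b, rfl⟩ := surjP h hU 0 a
      rw [toPushL_smul]
      exact Submodule.smul_mem _ b hy
  exact key _ hx


end Main

end K390.VLim

end
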