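import Groth.Agent.FCompl.K390.VBase
import Groth.Agent.FCompl.K390.VLim

/-!
# The traces of affine opens of `Spec A` on `Spf A` are good
-/

set_option autoImplicit false
set_option linter.style.haveILetI false

universe u

open CategoryTheory CategoryTheory.Limits AlgebraicGeometry TopologicalSpace Opposite
open K29.RSec K29.RStalk K29.RPull K28 K28.RealSec K28.BasisIso K28.ToSch
open Groth.Agent.Fcompl.H552.IdealSpec K390.CLimAlg K390.CSec K390.TildeSec K390.VBase K390.VGood K29.Fml

noncomputable section

namespace K390.VSpf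

variable {R : Type u} [CommRing R] {I : Ideal R} {A : Type u} [CommRing A] [Algebra R A]
  (h : (FSch.completionAlong (Spec (CommRingCat.of A)) (FSch.idealSpec A (I.map (algebraMap R A)))).IsFormal)
  (hR : AdicRing.IsBase R I) (hA : AdicRing.TopFiniteType R I A)
  {V : (Spec (CommRingCat.of A)).Opens} (hV : IsAffineOpen V)

include hR in
theorem fg_I : I.FG := K25.Base.fg_of_isBase hR

include hR in
theorem fg_JV : (JV (FSch.idealSpec A (I.map (algebraMap R A))) hV).FG := by
  have e1 : JV (FSch.idealSpec A (I.map (algebraMap R A))) hV = (I.map (algebraMap R A)).map (secMap A V).hom :=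
    ideal_eq _ hV
  rw [e1]
  exact ((fg_I hR).map _).map _

include hR hV in
theorem II_eq : II h (hat _ V) = (JV (FSch.idealSpec A (I.map (algebraMap R A))) hV).map
    (cr (FSch.idealSpec A (I.map (algebraMap R A))) h V) := by
  ext x
  have h1 := ((limR h hV).completeR (fg_JV hR hV)).2 0 x
  rw [zero_add, pow_one] at h1
  exact h1

include hR hV in
theorem mem_II_pow (k : ℕ) (x : O ((FSch.completionAlong (Spec (CommRingCat.of A))
    (FSch.idealSpec A (I.map (algebraMap R A)))).Osh h) (hat _ V)) :
    x ∈ II h (hat _ V) ^ (k + 1) ↔ prO h k (hat _ V) x = 0 := by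
  rw [II_eq h hR hV]
  exact (((limR h hV).completeR (fg_JV hR hV)).2 k x).symm

include hR hV in
theorem II_eq' : II h (hat _ V) = I.map ((ra h V).comp (algebraMap R A)) := by
  rw [II_eq h hR hV]
  have e1 : JV (FSch.idealSpec A (I.map (algebraMap R A))) hV = (I.map (algebraMap R A)).map (secMap A V).hom :=
    ideal_eq _ hV
  rw [e1, Ideal.map_map]
  exact Ideal.map_map _ _

include hR hA hV in
theorem topFiniteType :
    letI := ((ra h V).comp (algebraMap R A)).toAlgebra
    AdicRing.TopFiniteType R I (O ((FSch.completionAlong (Spec (CommRingCat.of A))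
      (FSch.idealSpec A (I.map (algebraMap R A)))).Osh h) (hat _ V)) := by
  letI := ((ra h V).comp (algebraMap R A)).toAlgebra
  set B := O ((FSch.completionAlong (Spec (CommRingCat.of A))
      (FSch.idealSpec A (I.map (algebraMap R A)))).Osh h) (hat _ V) with hB
  have e1 : II h (hat _ V) = I.map (algebraMap R B) := II_eq' h hR hV
  have hc : IsAdicComplete (I.map (algebraMap R B)) B := by
    rw [← e1, II_eq h hR hV]
    exact ((limR h hV).completeR (fg_JV hR hV)).1
  rw [K26.CLocQ.topFiniteType_iff R I (fg_I hR) B]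
  have hcA : IsAdicComplete (I.map (algebraMap R A)) A := K25.ArtinRees.isAdicComplete_of_finite hR hA A
  have h1 : (algebraMap R (A ⧸ I.map (algebraMap R A))).FiniteType :=
    RingHom.finiteType_algebraMap.2 ((K26.CLocQ.topFiniteType_iff R I (fg_I hR) A).1 hA)
  let τ : O (Spec (CommRingCat.of A)).sheaf V →+* B ⧸ I.map (algebraMap R B) :=
    (Ideal.Quotient.mk _).comp (cr (FSch.idealSpec A (I.map (algebraMap R A))) h V)
  have hτ : Function.Surjective τ := by
    intro x
    obtain ⟨b, rfl⟩ := Ideal.Quotient.mk_surjective x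
    obtain ⟨c, hc'⟩ := (limR h hV).surj 0 (pk _ h 0 _ b)
    refine ⟨c, ?_⟩
    refine Ideal.Quotient.eq.2 ?_
    rw [← e1]
    change pk _ h 0 _ (cr _ h V c - b) = 0
    rw [map_sub, hc', sub_self]
  have h2 : (τ.comp (secMap A V).hom).FiniteType := by
    have h3 : τ.FiniteType := RingHom.FiniteType.of_surjective τ hτ
    exact h3.comp (finiteType_secMap hV)
  let σ : A ⧸ I.map (algebraMap R A) →+* B ⧸ I.map (algebraMap R B) :=
    Ideal.quotientMap _ (ra h V) (by
      rw [← Ideal.map_le_iff_le_comap, Ideal.map_map]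
      exact le_rfl)
  have h4 : σ.comp (Ideal.Quotient.mk _) = τ.comp (secMap A V).hom := by
    ext a
    rfl
  have h5 : σ.FiniteType := by
    rw [← h4] at h2
    exact RingHom.FiniteType.of_comp_finiteType h2
  have h6 := h5.comp h1
  exact RingHom.finiteType_algebraMap.1 h6

include hR hA hV in
theorem good : GV h (hat (FSch.idealSpec A (I.map (algebraMap R A))) V) where
  aff := isAffineOpen_hat h hV 0
  surj k y := by
    obtain ⟨c, hc⟩ := (limR h hV).surj k y
    exact ⟨_, hc⟩
  mem_pow := mem_II_pow h hR hV
  compl M _ _ _ := by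
    letI := ((ra h V).comp (algebraMap R A)).toAlgebra
    have h1 := K25.ArtinRees.isAdicComplete_of_finite hR (topFiniteType h hR hA hV) M
    rw [II_eq' h hR hV]
    exact h1

end K390.VSpf

end
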